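import Cfsg.Agent.HNO.Mats

set_option autoImplicit false
set_option Elab.async false
set_option maxRecDepth 100000
set_option linter.all false

namespace Cfsg.Agent.HNO
open Cfsg.Agent.CGT

open Cfsg.Agent.PM

theorem R1 : T.isOne As [6, 5, 7, 7, 0, 0, 6, 6, 4, 7, 5, 1, 1] = true := by decide +kernel
theorem R2 : T.isOne As [0, 6, 6, 4, 7, 1, 5, 6, 6, 4, 7] = true := by decide +kernel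
theorem R3 : T.isOne As [6, 6, 4, 7, 0, 0, 6, 5, 7, 7, 5] = true := by decide +kernel
theorem R4 : T.isOne As [6, 5, 2, 6, 6, 4, 7, 3, 6, 6, 4, 7, 2, 6, 6, 4, 7, 0, 0, 6, 5, 7, 7, 3, 6, 5, 7, 7, 2, 6, 5, 7, 7, 3, 4, 7, 1, 1] = true := by decide +kernel
theorem C1 : T.isOne As [2, 0, 3, 3, 3, 1, 4, 3, 4, 2, 4, 4, 5, 3, 5, 2, 5, 0, 2, 2, 2, 1, 3, 5] = true := by decide +kernel
theorem C2 : T.isOne As [2, 0, 3, 0, 2, 4, 3, 1, 2, 1, 3, 5] = true := by decide +kernel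
theorem a_ne : T.moves As (2 ^ 270) [0, 0] 15 = true := by decide +kernel
theorem Ka : T.moves As (2 ^ 18) [0, 6, 6, 4, 7, 0, 0, 1, 5, 6, 6, 4, 7, 0, 0] 1 = true := by decide +kernel
theorem Kaz : T.moves As (2 ^ 18) [0, 6, 6, 4, 7, 4, 0, 0, 1, 5, 6, 6, 4, 7, 4, 0, 0] 1 = true := by decide +kernel
theorem Ly0 : T.moves As (2 ^ 270) [1, 2, 0, 0, 2, 0, 0, 0, 2, 0, 0, 2, 0, 0, 2, 0, 0, 1, 2, 0, 0, 2, 0, 0, 0, 2, 0, 0, 2, 0, 0, 2, 0, 0, 1, 2, 0, 0, 2, 0, 0, 0, 2, 0, 0, 2, 0, 0, 2, 0, 0] 15 = true := by decide +kernel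
theorem Ly1 : T.moves As (2 ^ 270) [1, 1, 1, 2, 0, 0, 2, 0, 0, 0, 0, 0, 2, 0, 0, 2, 0, 0, 2, 0, 0, 1, 1, 1, 2, 0, 0, 2, 0, 0, 0, 0, 0, 2, 0, 0, 2, 0, 0, 2, 0, 0, 1, 1, 1, 2, 0, 0, 2, 0, 0, 0, 0, 0, 2, 0, 0, 2, 0, 0, 2, 0, 0] 15 = true := by decide +kernel
theorem Lx0 : T.moves As (2 ^ 270) [4, 3, 1, 1, 1, 3, 1, 1, 1, 3, 3, 3, 4, 2, 2, 2, 0, 0, 0, 2, 0, 0, 0, 2, 0, 0, 0, 3, 1, 1, 1, 3, 1, 1, 1, 3, 3, 3, 4, 2, 2, 2, 0, 0, 0, 2, 0, 0, 0, 2, 0, 0, 0, 3, 1, 1, 1, 3, 1, 1, 1, 3, 3, 3, 4, 2, 2, 2, 0, 0, 0, 2, 0, 0, 0, 2, 0, 0, 0] 15 = true := by decide +kernel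
theorem Lx1 : T.moves As (2 ^ 270) [4, 0, 0, 3, 1, 1, 1, 3, 1, 1, 1, 3, 3, 3, 4, 0, 0, 2, 2, 2, 0, 0, 0, 2, 0, 0, 0, 2, 0, 0, 0, 3, 1, 1, 1, 3, 1, 1, 1, 3, 3, 3, 4, 0, 0, 2, 2, 2, 0, 0, 0, 2, 0, 0, 0, 2, 0, 0, 0, 3, 1, 1, 1, 3, 1, 1, 1, 3, 3, 3, 4, 0, 0, 2, 2, 2, 0, 0, 0, 2, 0, 0, 0, 2, 0, 0, 0] 15 = true := by decide +kernel

end Cfsg.Agent.HNO
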