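import Cfsg.Agent.HNO.Tabs

set_option autoImplicit false
set_option Elab.async false
set_option maxRecDepth 100000
set_option linter.all false

namespace Cfsg.Agent.HNO
open Cfsg.Agent.CGT

noncomputable def g_Ws : List (List ℕ) := [[2, 2, 2, 4, 2, 4, 2, 4, 0, 2, 4, 3], [2, 2, 0, 3, 4, 3, 0, 3, 0, 2, 2, 0, 2, 2, 0, 2], [2, 0, 2, 4, 2, 2, 0, 2, 4, 2, 2, 2, 4, 3, 3, 4, 0, 2, 4, 2, 0], [3, 3, 0, 3, 3, 4, 2, 0, 3, 3, 0, 2, 2, 2, 4, 0, 2, 2, 0, 2, 2, 4], [0, 2, 4, 2, 2, 0, 2, 4, 2, 2, 4, 3, 3, 4, 3, 3, 4, 0, 2], [3, 4, 3, 0, 2, 2, 0, 2, 2, 4, 3, 3, 4, 2, 4, 2, 2, 2, 0, 2], [3, 3, 4, 2, 4, 0, 3, 0, 2, 2], [3, 3, 0, 4, 3, 4, 3, 3, 4, 3, 4, 3, 4, 0, 2, 0, 3, 3], [0, 2, 2, 4, 3, 4, 2, 2, 4, 3, 0, 2, 2, 4, 2, 4, 3], [2, 0, 2, 0, 2, 0, 3, 4, 3,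 4, 3, 0, 2, 0, 2, 0, 2], [0, 2, 2, 4, 2, 2, 4, 2, 4, 3, 4, 3, 3, 4, 3, 3, 0], [0, 2, 2, 4, 3, 4, 2, 2, 4, 3, 0, 2, 2, 4, 2, 4, 3], [2, 0, 2, 0, 3, 0, 3, 3, 0, 3, 0, 2, 0, 2], [0, 2, 2, 4, 3, 0, 3, 4, 3, 4, 2, 2, 4, 2, 0, 2, 0, 3, 4, 3], [3, 0, 2, 0, 2, 4, 2, 4, 3, 4, 3, 0, 3, 0, 2], [3, 0, 2, 0, 2, 4, 2, 4, 3, 4, 3, 0, 3, 0, 2], [3, 0, 2, 0, 2, 4, 2, 4, 3, 4, 3, 0, 3, 0, 2], [3, 0, 2, 0, 2, 2, 4, 2, 0, 2, 4, 2, 4, 0, 2, 2, 2, 4, 0], [0], [2], [4]]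
theorem g_s0 : slpB 7 m_ts (chainBase [] c_ls) g_Ws [[1, 3, 5, 4, 5, 2, 3, 1, 1, 3], [2, 0, 5, 1, 2, 0, 2, 3], [7, 7, 8, 6, 8, 9, 7, 6, 6, 8, 8, 6], [8, 8, 9, 7, 9, 7, 9, 9], [7, 9, 9, 6, 8, 7, 9, 9, 6, 6, 9], [7, 7, 9, 9, 6, 7, 6, 7, 9, 6, 6], [10, 13, 15, 12, 15, 17, 15, 17, 14], [15, 11, 13, 10, 15, 13, 15], [11, 13, 17, 17, 11, 13, 17, 11, 10], [10, 14, 11, 17, 10, 16, 13, 17], [11, 15, 11, 13, 12, 10, 17, 14], [19, 25, 19, 23, 20, 20, 24, 19], [25, 23, 26, 27, 21, 20, 20, 23, 18], [25, 23, 25, 18, 21, 24, 24, 21], [25, 23, 27, 20, 18, 22, 20, 20, 24], [0, 9, 6, 14, 10, 24, 20], [4, 4, 0, 2, 0, 9, 9, 12, 10, 26, 25], [0, 9, 6, 22, 24, 20, 34, 28]] 3 21 = true := by decide +kernel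
theorem g_top {G : Type*} [Group G] {φ : G →* Equiv.Perm ℕ} {γ : ℕ → G}
    (C : Cert φ γ 7 m_ns m_ts [0, 2, 4] c_ls) : gw γ (g_Ws.take 3) = ⊤ := by
  have h0 : SlpTo γ (gw γ (g_Ws.take 3)) g_Ws 3 := fun i hi =>
    ev_mem_gw γ (by interval_cases i <;> decide +kernel)
  rw [eq_top_iff, ← C.gen]
  exact SlpTo.gp_le (SlpTo.step C.M C.base (by decide +kernel) h0 g_s0) (by decide +kernel)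

end Cfsg.Agent.HNO
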