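import Cfsg.Agent.HNO.OutU
import Cfsg.Agent.CGT.Out3

set_option autoImplicit false
set_option Elab.async false
set_option maxRecDepth 100000
set_option linter.all false

namespace Cfsg.Agent.HNO
open Cfsg.Agent.CGT

noncomputable def od : OutD := ⟨7, m_ts, (chainBase [] c_ls), [2, 2, 2, 4, 2, 4, 2, 4, 0, 2, 4, 3], [2, 2, 0, 3, 4, 3, 0, 3, 0, 2, 2, 0, 2, 2, 0, 2], [2, 0, 2, 4, 2, 2, 0, 2, 4, 2, 2, 2, 4, 3, 3, 4, 0, 2, 4, 2, 0], [2, 4, 0, 2, 2, 4, 2, 2, 2, 4, 2, 2, 0, 2, 0, 2, 2, 4, 2], 11, 2, 2, 4, 4, [1], [[2, 4, 3, 0, 2, 4, 2, 4, 2, 4, 2, 2, 4, 2, 0, 2, 4, 3, 3, 4], [0, 2, 4, 2, 4, 2, 0, 2, 2, 4, 2, 4, 2, 4, 0, 3, 0, 2, 2, 0, 3], [4, 3, 0, 2, 2, 4, 2, 0, 3, 4, 0, 3, 4, 2, 2, 2, 4, 2, 4, 2], [4, 2, 0, 3, 3, 0, 2, 0,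 2, 2, 4, 3, 0, 2, 2, 4, 2, 4, 2, 0, 2], [4, 0, 3, 0, 2, 2, 2, 0, 3, 4, 3, 3, 0, 2, 2, 4, 2, 2, 0], [2, 2, 4, 3, 0, 3, 0, 3, 0, 2, 4, 0, 2, 0, 2, 2, 0, 2, 2, 4, 2, 0], [3, 4, 2, 0, 2, 0, 3, 3, 0, 3, 0, 3, 3, 0, 2, 2, 0, 2, 4, 0, 3], [2, 2, 4, 2, 0, 4, 2, 0, 2, 4, 0, 3, 3, 4, 3, 4, 0, 2, 2, 2], [2, 4, 2, 0, 3, 4, 3, 3, 4, 2, 0, 2, 4, 3, 3, 0, 3, 4, 3, 4]], [[0, 5, 2, 0, 5, 2, 0, 5, 2]], [[[2, 2, 2, 4, 2, 4, 2, 4, 0, 2, 4, 3], [2, 2, 0, 3, 4, 3, 0, 3, 0, 2, 2, 0, 2, 2, 0, 2], [2, 0, 2, 4, 2, 2, 0, 2, 4, 2, 2, 2, 4, 3, 3, 4, 0, 2, 4, 2, 0]]]⟩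
theorem od_b : od.basic 88704000 0 = true := by decide +kernel
theorem od_c : conjB 7 m_ts (chainBase [] c_ls) [3, 5, 2, 2, 5, 3, 5, 0, 3, 3, 5, 0] od.u cu_S.u od.Cl cu_S.Cl = true := by decide +kernel
theorem od_k1_0 : od.cands 1 ((([] :: od.Cl).drop 0).take 10) [[0, 1, 1, 1, 1], [1, 1, 1, 1, 1], [1, 1, 1, 1, 1], [1, 1, 1, 1, 1], [1, 1, 1, 1, 1], [1, 1, 1, 1, 1], [1, 1, 1, 1, 1], [1, 1, 1, 1, 1], [1, 1, 1, 1, 1], [1, 1, 1, 1, 1]] = true := by decide +kernel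

end Cfsg.Agent.HNO
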