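import Cfsg.Agent.HNO.Tabs

set_option autoImplicit false
set_option Elab.async false
set_option maxRecDepth 100000
set_option linter.all false

namespace Cfsg.Agent.HNO
open Cfsg.Agent.CGT

noncomputable def cw_l0 : Level := ⟨0, [[0], [2], [4]], [], 0xfffffffffffffffffffffffff, 100⟩
noncomputable def cw_l1 : Level := ⟨10, [[1, 4], [3, 3], [3, 4, 2]], [], 0x9a75c7efd7b7ebfbfd3ffeffe, 77⟩
noncomputable def cw_l2 : Level := ⟨80, [[3, 4, 2, 4, 2, 2, 4, 2, 0, 3, 4, 3, 0, 3, 0], [3, 4, 2, 2, 2, 4, 2, 2, 2, 4, 3, 4, 3, 3, 4, 2, 4, 0]], [], 0x418a381000481404004001000, 16⟩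
noncomputable def cw_l3 : Level := ⟨27, [[4, 0, 2, 2, 2, 4, 2, 4, 0, 2, 2, 2, 4, 3, 3, 4, 3]], [], 0x2400000028000000028000000, 6⟩
noncomputable def cw_l4 : Level := ⟨73, [[2, 2, 4, 2, 4, 0, 2, 2, 4, 3, 3], [2, 2, 0, 3, 0, 2, 0, 2, 4, 2, 2, 0, 2, 4, 2, 0, 3, 3]], [], 0x8000002040020100000004000, 6⟩
noncomputable def cw_l5 : Level := ⟨19, [[2, 2, 4, 2, 4, 2, 0, 2, 0, 2, 2, 2, 0, 2, 0, 3], [0, 3, 0, 3, 0, 2, 0, 2, 2, 2, 0, 3, 0, 2, 0, 2, 0]], [], 0x10408000200000000080000, 5⟩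
noncomputable def cw_l6 : Level := ⟨67, [[2, 4, 2, 4, 2, 2, 4, 0, 3, 3, 0, 3, 4, 3], [4, 0, 2, 0, 2, 4, 2, 0, 3, 4, 3, 4, 3, 4, 3, 0, 3, 0, 3, 0, 2, 0]], [], 0x800080004020000000000, 4⟩
noncomputable def cw_ls : List Level := [cw_l0, cw_l1, cw_l2, cw_l3, cw_l4, cw_l5, cw_l6]
noncomputable def cw_S : Srch := ⟨7, m_ts, (chainBase [] c_ls), [2, 0, 3, 3, 3, 1, 4, 3, 4, 2, 4], [2, 0, 3, 3, 3, 1, 4, 3, 4, 2, 4], []⟩
noncomputable def cw_lk : List ℕ := [1, 11, 81, 28, 74, 20]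
noncomputable def cw_tl : List Level := [cw_l1, cw_l2, cw_l3, cw_l4, cw_l5, cw_l6]
noncomputable def cw_R0 : ℕ := 0x4000000800108a0000005d
theorem cw_l0_ok : cw_l0.okT 7 m_ts [0, 2, 4] [] (.cons [0] (.cons [2] (.cons [0] (.cons [2] (.cons [0] (.cons [3] (.cons [0] .nil .nil) .nil) .nil) (.cons [3] (.cons [0] .nil (.cons [3] .nil .nil)) .nil)) .nil) (.cons [3] (.cons [0] (.cons [2] (.cons [0] (.cons [2] (.cons [0] .nil .nil) .nil) (.cons [2] (.cons [0] (.cons [3] (.cons [0] .nil (.cons [3] .nil .nil)) .nil) (.cons [4] (.cons [2] (.cons [0] .nil (.cons [2] (.cons [0] .nil (.cons [4] .nil .nil)) .nil)) .nil) .nil)) .nil)) (.cons [3] (.cons [0] .nil .nil) .nil)) .nil) .nil)) (.cons [2] (.cons [0] (.cons [2] (.cons [0] (.cons [2] (.cons [0] (.cons [3] (.cons [0] (.cons [3] (.cons [0] .nil .nil) .nil) .nil) (.cons [4] (.cons [3] .nil .nil) .nil)) (.cons [4] (.cons [2] (.cons [0] .nil (.cons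 [2] (.cons [0] (.cons [3] (.cons [0] .nil .nil) .nil) (.cons [4] .nil .nil)) .nil)) .nil) .nil)) .nil) (.cons [2] (.cons [0] (.cons [3] (.cons [0] (.cons [4] .nil .nil) (.cons [3] .nil (.cons [4] (.cons [2] (.cons [2] (.cons [0] (.cons [3] .nil .nil) .nil) .nil) .nil) .nil))) .nil) (.cons [2] (.cons [0] (.cons [2] (.cons [0] .nil .nil) (.cons [3] (.cons [0] .nil .nil) .nil)) .nil) (.cons [4] (.cons [2] (.cons [0] (.cons [3] .nil (.cons [4] .nil .nil)) (.cons [2] (.cons [0] .nil .nil) (.cons [4] (.cons [3] (.cons [3] (.cons [0] .nil .nil) .nil) .nil) .nil))) .nil) .nil))) .nil)) (.cons [3] (.cons [0] (.cons [3] (.cons [0] (.cons [2] (.cons [0] (.cons [2] (.cons [0] .nil (.cons [2] (.cons [0] (.cons [2] .nil .nil) .nil) .nil)) (.cons [3] .nil .nil)) (.cons [2] .nil .nil)) (.cons [4] (.cons [2] (.cons [2] (.cons [0] .nil .nil) .nil) .nil) .nil)) (.cons [4] (.cons [3] (.cons [0] .nil (.cons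 [3] .nil .nil)) .nil) .nil)) .nil) (.cons [3] .nil .nil)) .nil)) .nil) .nil)) = true := by decide +kernel
theorem cw_l1_ok : cw_l1.okT 7 m_ts [0, 2, 4] [0] (.cons [2] (.cons [4] (.cons [2] (.cons [0] (.cons [3] (.cons [4] (.cons [0] .nil .nil) .nil) (.cons [4] (.cons [3] .nil .nil) .nil)) .nil) (.cons [3] (.cons [0] (.cons [2] (.cons [4] .nil .nil) (.cons [3] (.cons [0] (.cons [4] (.cons [3] .nil .nil) .nil) (.cons [4] .nil .nil)) .nil)) .nil) .nil)) .nil) (.cons [3] (.cons [0] (.cons [2] .nil (.cons [3] .nil (.cons [4] (.cons [0] (.cons [3] (.cons [0] (.cons [4] .nil .nil) (.cons [4] .nil .nil)) .nil) .nil) .nil))) .nil) (.cons [4] (.cons [0] (.cons [2] (.cons [0] .nil (.cons [4] (.cons [0] (.cons [2] .nil .nil) .nil) .nil)) (.cons [3] (.cons [0] (.cons [3] (.cons [0] (.cons [3] .nil (.cons [4] .nil .nil)) (.cons [4] (.cons [2] .nil .nil) .nil)) (.cons [4] (.cons [2] (.cons [0] (.cons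 [2] .nil (.cons [3] .nil (.cons [4] .nil .nil))) .nil) (.cons [3] .nil .nil)) .nil)) (.cons [4] (.cons [0] .nil .nil) .nil)) (.cons [4] (.cons [2] (.cons [0] (.cons [3] .nil .nil) (.cons [4] .nil .nil)) (.cons [3] (.cons [0] .nil (.cons [4] .nil .nil)) .nil)) .nil))) (.cons [2] (.cons [0] (.cons [2] (.cons [0] .nil .nil) (.cons [4] (.cons [0] .nil .nil) .nil)) .nil) (.cons [3] (.cons [0] (.cons [2] (.cons [0] .nil .nil) (.cons [3] (.cons [0] .nil (.cons [4] (.cons [2] .nil .nil) .nil)) .nil)) (.cons [4] (.cons [0] .nil .nil) .nil)) .nil))) .nil))) = true := by decide +kernel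
theorem cw_l2_ok : cw_l2.okT 7 m_ts [0, 2, 4] [10, 0] (.cons [0] (.cons [0] .nil (.cons [2] (.cons [1] .nil (.cons [0] .nil .nil)) .nil)) (.cons [1] (.cons [1] (.cons [2] .nil (.cons [3] .nil .nil)) .nil) (.cons [3] (.cons [0] (.cons [3] .nil .nil) (.cons [1] (.cons [1] .nil .nil) (.cons [3] .nil .nil))) .nil))) = true := by decide +kernel
theorem cw_l3_ok : cw_l3.okT 7 m_ts [0, 2, 4] [80, 10, 0] (.cons [0] (.cons [0] (.cons [0] .nil .nil) .nil) (.cons [1] (.cons [1] .nil .nil) .nil)) = true := by decide +kernel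
theorem cw_l4_ok : cw_l4.okT 7 m_ts [0, 2, 4] [27, 80, 10, 0] (.cons [0] (.cons [2] .nil .nil) (.cons [1] .nil (.cons [2] .nil (.cons [3] .nil .nil)))) = true := by decide +kernel
theorem cw_l5_ok : cw_l5.okT 7 m_ts [0, 2, 4] [73, 27, 80, 10, 0] (.cons [0] (.cons [2] (.cons [0] .nil .nil) .nil) (.cons [2] .nil .nil)) = true := by decide +kernel
theorem cw_l6_ok : cw_l6.okT 7 m_ts [0, 2, 4] [19, 73, 27, 80, 10, 0] (.cons [0] .nil (.cons [2] .nil (.cons [3] .nil .nil))) = true := by decide +kernel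
theorem cw_aux : cw_S.auxB [0, 2, 4] cw_ls [] (0 :: cw_lk) = true := by decide +kernel
theorem cw_cov : Nat.beq (Nat.land cw_l0.O (Srch.cover m_ns (invW cw_S.u') cw_R0 13)) cw_l0.O = true := by decide +kernel
theorem cw_r0 : cw_S.run (.cons [] (.cons [] (.cons [] (.cons [] (.cons [] (.cons [] (.cons [] (.leaf 2000) .nil) .nil) .nil) .nil) .nil) .nil) (.cons [2] (.cons [2, 0, 3] .nil .nil) (.cons [2, 0] .nil (.cons [3, 0] (.cons [0, 3, 0, 4] .nil .nil) (.cons [0, 2] (.cons [0, 4, 0, 3] .nil .nil) (.cons [3, 0, 2] (.cons [3, 4, 0, 4] .nil .nil) (.cons [0, 3, 0, 2, 0] (.cons [0, 4, 0, 3] .nil .nil) (.cons [0, 2, 4, 2, 2, 0, 2] (.cons [2, 4, 0, 4] .nil .nil) (.cons [0, 2, 4, 2, 0, 2, 0, 2] (.cons [2] .nil .nil) (.cons [0, 3, 4, 3, 0, 3, 0, 2] .nil (.cons [0, 3, 0, 2, 2, 4, 2, 0, 2, 0, 2] .nil .nil))))))))))) (⟨cw_l0.b, cw_l0.S, [], cw_R0, 0⟩ :: cw_tl) (0 :: cw_lk) Pd.nil 0 = true := by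 decide +kernel
theorem cw_sound {G : Type*} [Group G] {φ : G →* Equiv.Perm ℕ} {γ : ℕ → G}
    (M : Model φ γ 7 m_ns m_ts) : ChainSound φ (gp γ [0, 2, 4]) 7 [] cw_ls :=
  ⟨Level.okT_sound M cw_l0_ok,
   Level.okT_sound M cw_l1_ok,
   Level.okT_sound M cw_l2_ok,
   Level.okT_sound M cw_l3_ok,
   Level.okT_sound M cw_l4_ok,
   Level.okT_sound M cw_l5_ok,
   Level.okT_sound M cw_l6_ok, trivial⟩
theorem cw_cent {G : Type*} [Group G] {φ : G →* Equiv.Perm ℕ} {γ : ℕ → G}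
    (C : Cert φ γ 7 m_ns m_ts [0, 2, 4] c_ls) : Cent γ cw_S.u cw_S.Cl 13 :=
  have X := (C.rechain (cw_sound C.M) (by decide +kernel)).exact
  have A := Srch.auxB_sound (S := cw_S) C.M (K := ⊤) le_top rfl cw_aux
  have F := fun {tr : Tr} {R : ℕ} => Srch.found_of_run (S := cw_S) C.M C.base (by decide +kernel) X A (tr := tr) (R := R)
  Cent.of_found (S := cw_S) C.M X rfl (F cw_r0) cw_cov

end Cfsg.Agent.HNO
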