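import Cfsg.Agent.HNO.Rep
import Cfsg.Agent.HNO.Fam
import Cfsg.Agent.HNO.Ids
import Cfsg.Agent.HNO.OutC
import Cfsg.Agent.HNO.OutW
import Cfsg.Agent.CGT.DceMul

set_option autoImplicit false
set_option linter.style.haveILetI false

/-! The centraliser of the involution `x ^ 2` in the Harada–Norton group. -/

namespace Cfsg.Agent.HNO

open Cfsg.Agent.CGT Cfsg.Agent.PM Equiv
open Matrix (vecMul_vecMul mulVec_mulVec vecMul_one one_mulVec)
open scoped Matrix

abbrev G : Type := Cfsg.Spor.HN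

/-- The value of a word. -/
noncomputable abbrev E (w : List ℕ) : G := ev (ext δ) w

/-- The involution. -/
noncomputable def a : G := E [0, 0]

/-- Its centraliser. -/
noncomputable def K : Subgroup G := gp δ [0, 2, 4]

section
variable {X : Type*} [Group X] (p : ℕ → X)
theorem e0 : ext p 0 = p 0 := ext_two_mul p 0
theorem e1 : ext p 1 = (p 0)⁻¹ := ext_two_mul_add_one p 0
theorem e2 : ext p 2 = p 1 := ext_two_mul p 1
theorem e3 : ext p 3 = (p 1)⁻¹ := ext_two_mul_add_one p 1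
theorem e4 : ext p 4 = p 2 := ext_two_mul p 2
theorem e5 : ext p 5 = (p 2)⁻¹ := ext_two_mul_add_one p 2
theorem e6 : ext p 6 = p 3 := ext_two_mul p 3
theorem e7 : ext p 7 = (p 3)⁻¹ := ext_two_mul_add_one p 3
end

theorem a_eq : a = δ 0 * δ 0 := by simp [a, e0]

theorem central_aux {X : Type*} [Group X] {x y z : X} (h1 : x * (x * (y * (x * (x * y⁻¹)))) = 1)
    (h3 : (x⁻¹ * (y * y) * x * (y * y) * y) ^ 3 = 1) (hz : z * z = 1) (hx : z * (x * (z * x)) = 1) :
    x * x * (x * x) = 1 ∧ Commute y (x * x) ∧ Commute z (x * x) := by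
  have hy : y * (x * x) * y⁻¹ = (x * x)⁻¹ := by
    rw [eq_inv_iff_mul_eq_one, mul_eq_one_comm, ← h1]; group
  have hz1 : z * x * z⁻¹ = x⁻¹ := by
    rw [eq_inv_iff_mul_eq_one, ← hx, inv_eq_of_mul_eq_one_right hz]; group
  have hz2 : z * (x * x) * z⁻¹ = (x * x)⁻¹ := by
    rw [mul_inv_rev, ← hz1]; group
  have hxx : Commute x (x * x) := (Commute.refl x).mul_right (Commute.refl x)
  generalize x * x = a at *
  have hyy : Commute (y * y) a := by
    rw [Commute, SemiconjBy, ← mul_inv_eq_iff_eq_mul]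
    calc _ = y * (y * a * y⁻¹) * y⁻¹ := by group
      _ = (y * a * y⁻¹)⁻¹ := by rw [hy]; nth_rewrite 2 [← hy]; group
      _ = a := by rw [hy, inv_inv]
  have hv : Commute (x⁻¹ * (y * y) * x * (y * y)) a :=
    ((hxx.inv_left.mul_left hyy).mul_left hxx).mul_left hyy
  generalize x⁻¹ * (y * y) * x * (y * y) = v at *
  have hu : v * y * a * (v * y)⁻¹ = a⁻¹ := by
    calc _ = v * (y * a * y⁻¹) * v⁻¹ := by group
      _ = a⁻¹ := by rw [hy, hv.inv_right.eq]; group
  generalize v * y = u at *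
  have h4 : a = a⁻¹ := by
    have h5 : u * a⁻¹ * u⁻¹ = a := by
      calc _ = (u * a * u⁻¹)⁻¹ := by group
        _ = a := by rw [hu, inv_inv]
    calc a = u ^ 3 * a * (u ^ 3)⁻¹ := by rw [h3]; group
      _ = u * (u * (u * a * u⁻¹) * u⁻¹) * u⁻¹ := by rw [pow_three]; group
      _ = a⁻¹ := by rw [hu, h5, hu]
  rw [← h4] at hy hz2
  exact ⟨by nth_rewrite 2 [h4]; group, mul_inv_eq_iff_eq_mul.1 hy, mul_inv_eq_iff_eq_mul.1 hz2⟩

theorem a_aux : a * a = 1 ∧ Commute (δ 1) a ∧ Commute (δ 2) a := by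
  have h1 := hD [0, 0, 2, 0, 0, 3] (by decide)
  have h3 := hD (pw [1, 2, 2, 0, 2, 2, 2] 3) (by decide +kernel)
  have h4 := hD [4, 4] (by decide)
  have h5 := hD [4, 0, 4, 0] (by decide)
  rw [ev_pw] at h3
  simp only [ev_cons, ev_nil, mul_one, e0, e1, e2, e3, e4] at h1 h3 h4 h5
  rw [a_eq]
  exact central_aux h1 (by simpa only [mul_assoc] using h3) h4 h5

theorem a_comm {k : G} (hk : k ∈ K) : Commute k a := by
  have : K ≤ Subgroup.centralizer {a} := gp_le fun b hb => by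
    rw [Subgroup.mem_centralizer_singleton_iff]
    simp only [List.mem_cons, List.not_mem_nil, or_false] at hb
    rcases hb with rfl | rfl | rfl
    · rw [e0, a_eq, mul_assoc]
    · rw [e2]; exact a_aux.2.1
    · rw [e4]; exact a_aux.2.2
  exact Subgroup.mem_centralizer_singleton_iff.1 (this hk)

theorem mem_K {w : List ℕ} (h : wordIn [0, 2, 4] w = true := by decide +kernel) : E w ∈ K :=
  wordIn_sound δ h

/-- The generators of `K`. -/
noncomputable def γ (j : ℕ) : K := ⟨wg δ [[0], [2], [4]] j, by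
  rw [← ext_two_mul (wg δ _)]
  exact ext_wg_mem (wordsIn_sound δ (L := [0, 2, 4]) (by decide +kernel)) _⟩

theorem coe_ev {w : List ℕ} (h : expand (dbl [[0], [2], [4]]) w = w := by decide +kernel) :
    ((ev (ext γ) w : K) : G) = E w := by
  rw [E]
  nth_rewrite 2 [← h]
  rw [ev_expand_dbl]
  exact map_ev_ext K.subtype γ w

theorem coe_γ {j : ℕ} (hj : j < 3) : (γ j : G) = δ j := by
  show wg δ [[0], [2], [4]] j = _
  interval_cases j
  · exact (ev_singleton _ _).trans (e0 _)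
  · exact (ev_singleton _ _).trans (e2 _)
  · exact (ev_singleton _ _).trans (e4 _)

theorem γ_le {j : ℕ} (hj : 3 ≤ j) : γ j = 1 := Subtype.ext (wg_of_le δ hj)

theorem γ_gen : gp γ [0, 2, 4] = ⊤ := eq_top_of_closure fun s hs => by
  obtain ⟨b, hb, rfl⟩ := hs
  have := ext_mem_gp γ hb
  simp only [List.mem_cons, List.not_mem_nil, or_false] at hb
  refine Eq.mpr (congrArg (· ∈ gp γ [0, 2, 4]) (Subtype.ext ?_)) this
  rcases hb with rfl | rfl | rfl
  · rw [e0 γ, coe_γ (by omega)]; exact e0 δ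
  · rw [e2 γ, coe_γ (by omega)]; exact e2 δ
  · rw [e4 γ, coe_γ (by omega)]; exact e4 δ

/-- The action on the vectors. -/
def Rel (s : T.M) (i j : ℕ) : Prop := T.vR V j ᵥ* s = T.vR V i ∧ s *ᵥ T.uC U i = T.uC U j

structure Ctx (ρ : G →* T.Mˣ) (φ : K →* Perm ℕ) : Prop where
  rep : T.IsRep ρ δ As
  M : Model φ γ 7 m_ns m_ts
  act : ∀ k, φ k ∈ bddPerm 100 ∧ ∀ i < 100, Rel (ρ k).val i (φ k i)

theorem V_rows : T.Rows V := Par.rowsB_sound T_ok V_ok
theorem U_rows : T.Rows U := Par.rowsB_sound T_ok U_ok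

theorem V_inj {i j : ℕ} (hi : i < 100) (hj : j < 100) (e : T.vR V i = T.vR V j) : i = j :=
  Par.disB_sound V_dis hi hj e

theorem exists_ctx : ∃ ρ φ, Ctx ρ φ := by
  obtain ⟨ρ, hρ⟩ := exists_rep
  obtain ⟨φ, h1, h2⟩ := exists_hom_rel γ_gen (N := 100) (p := netPerm m_ns)
    (fun k i j => Rel (ρ k).val i j) (fun i _ => by simp [Rel])
    (fun x y i j l _ _ _ h h' => by
      simp only [Rel, Subgroup.coe_mul, map_mul, Units.val_mul, ← vecMul_vecMul, ← mulVec_mulVec]
      exact ⟨by rw [h'.1, h.1], by rw [h.2, h'.2]⟩)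
    (fun x i j _ _ h => by
      simp only [Rel, Subgroup.coe_inv, map_inv]
      exact ⟨by rw [← h.1, vecMul_vecMul, Units.mul_inv, vecMul_one],
        by rw [← h.2, mulVec_mulVec, Units.inv_mul, one_mulVec]⟩)
    (fun i j hi hj h => V_inj hi hj (by simpa using h.1.symm))
    (fixAbove_sound m_v m_fix) (fun j i hi => by
      by_cases hj : j < 3
      · have key : T.famB As 100 V U (2 * j) (ap 7 (msk 7) m_ts [2 * j]) = true := by
          interval_cases j
          exacts [fam0, fam1, fam2]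
        have := Par.famB_sound T_ok hρ (by decide) V_rows U_rows rfl key hi
        rw [msk_eq, ap_eq m_v m_ts_ok _ (by omega), ev_singleton, CGT.lp, ext_two_mul, ext_two_mul] at this
        rw [coe_γ hj]
        exact this
      · rw [γ_le (by omega), netPerm_of_le m_ns (show 3 ≤ j by omega)]
        simp [Rel])
  exact ⟨ρ, φ, hρ, ⟨m_v, h1, m_ts_ok⟩, h2⟩

/-- The involution in `K`. -/
noncomputable def aK : K := ev (ext γ) [0, 0]

theorem coe_aK : (aK : G) = a := coe_ev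

/-- The centre. -/
noncomputable def Z : Subgroup K := Subgroup.zpowers aK

theorem aK_comm (k : K) : Commute k aK := Subtype.ext (by
  rw [Subgroup.coe_mul, Subgroup.coe_mul, coe_aK]; exact a_comm k.2)

instance Z_normal : Z.Normal := ⟨fun n hn g => by
  obtain ⟨m, rfl⟩ := hn
  rw [((aK_comm g).zpow_right m).eq, mul_inv_cancel_right]
  exact ⟨m, rfl⟩⟩

theorem mem_Z {k : K} (h : k ∈ Z) : (k : G) = 1 ∨ (k : G) = a := by
  obtain ⟨m, rfl⟩ := h
  have h2 : aK ^ (2 : ℤ) = 1 := Subtype.ext (by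
    rw [zpow_two, Subgroup.coe_mul, coe_aK]; exact a_aux.1)
  obtain ⟨n, rfl | rfl⟩ := Int.even_or_odd' m
  · left; simp only [zpow_mul, h2, one_zpow]; rfl
  · right; simp only [zpow_add, zpow_mul, h2, one_zpow, one_mul, zpow_one]; exact coe_aK

namespace Ctx

variable {ρ : G →* T.Mˣ} {φ : K →* Perm ℕ} (X : Ctx ρ φ)
include X

theorem ρa_ne : ρ a ≠ 1 := X.rep.ne T_ok a_ne

theorem a_ne_one : a ≠ 1 := fun h => X.ρa_ne (by rw [h, map_one])

theorem Z_le : Z ≤ φ.ker := by
  rw [Z, Subgroup.zpowers_le, MonoidHom.mem_ker, aK, X.M.map_ev']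
  exact eqW_sound (v := []) m_v (by decide +kernel)

theorem cert (hK : Bd K 177408000) :
    Cert (QuotientGroup.lift Z φ X.Z_le) (qg Z γ) 7 m_ns m_ts [0, 2, 4] c_ls := by
  haveI := hK.1
  haveI : Fact (Nat.Prime 2) := Nat.fact_prime_two
  have h1 : Nat.card Z = 2 := by
    rw [Z, Nat.card_zpowers]
    refine orderOf_eq_prime (Subtype.ext ?_) fun h => X.a_ne_one ?_
    · rw [sq, Subgroup.coe_mul, coe_aK]; exact a_aux.1
    · rw [← coe_aK, h]; rfl
  have h2 := Subgroup.card_eq_card_quotient_mul_card_subgroup Z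
  have h3 := hK.2
  rw [h1] at h2
  exact Cert.of_card (X.M.quot X.Z_le) (c_sound (X.M.quot X.Z_le)) (m := 88704000)
    ⟨inferInstance, by omega⟩ (by decide +kernel)

end Ctx

end Cfsg.Agent.HNO
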