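import Cfsg.Agent.HNO.Mats

set_option autoImplicit false
set_option Elab.async false
set_option maxRecDepth 100000
set_option linter.all false

namespace Cfsg.Agent.HNO
open Cfsg.Agent.CGT

open Cfsg.Agent.PM

theorem b6 : T.isOne As [4, 0, 0, 4, 0, 0] = true := by decide +kernel
theorem b7 : T.isOne As [4, 0, 0, 0, 4, 0, 0, 0] = true := by decide +kernel
theorem b8 : T.isOne As [1, 1, 5, 2, 1, 3, 3, 1, 3, 1, 3, 4, 0, 0, 2, 0, 2, 0, 2, 2, 0, 3, 1, 1] = true := by decide +kernel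
theorem b9 : T.isOne As [4, 0, 0, 3, 1, 3, 1, 3, 3, 3, 4, 0, 0, 2, 2, 2, 0, 2, 0, 2, 0, 3, 1, 3, 1, 3, 3, 3, 4, 0, 0, 2, 2, 2, 0, 2, 0, 2, 0, 3, 1, 3, 1, 3, 3, 3, 4, 0, 0, 2, 2, 2, 0, 2, 0, 2, 0] = true := by decide +kernel
theorem b10 : T.isOne As [6, 6, 6, 6, 6, 6, 6, 6, 6, 6, 6, 6, 6, 6, 6] = true := by decide +kernel
theorem b11 : T.isOne As [1, 6, 6, 6, 0, 6, 6, 6, 6, 6, 6] = true := by decide +kernel
theorem b12 : T.isOne As [7, 7, 7, 3, 6, 6, 6, 2] = true := by decide +kernel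
theorem b13 : T.isOne As [4, 0, 0, 6, 6, 6, 4, 0, 0, 6, 6, 6, 4, 0, 0, 6, 6, 6] = true := by decide +kernel

end Cfsg.Agent.HNO
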