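import Cfsg.Agent.HNO.Cent
import Cfsg.Agent.HNO.Beta

set_option autoImplicit false
set_option linter.style.haveILetI false

/-! The outer automorphism group of the Harada–Norton group. -/

namespace Cfsg.Agent.HNO

open Cfsg.Agent.CGT Cfsg.Agent.PM Equiv

theorem inner_of_card {X : Type*} [Group X] (h : Nat.card (Cfsg.Out X) = 1) (α : MulAut X) :
    ∃ g, MulAut.conj g = α := by
  haveI := (Nat.card_eq_one_iff_unique.1 h).1
  exact (QuotientGroup.eq_one_iff α).1 (Subsingleton.elim (α : Cfsg.Out X) 1)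

theorem map_word (α : MulAut G) {W : List (List ℕ)} {m : ℕ} (h : ∀ j < m, α (δ j) = wg δ W j)
    {r : List ℕ} (hr : Par.inR r (2 * m) = true) : α (E r) = E (expand (dbl W) r) := by
  rw [E, E, ev_expand_dbl]
  refine (map_ev_ext α.toMonoidHom δ r).trans (ev_congr fun b hb => ?_)
  have h1 : b < 2 * m := by simpa using allL_iff.1 hr b hb
  obtain ⟨j, rfl | rfl⟩ := Nat.even_or_odd' b
  · rw [ext_two_mul, ext_two_mul]; exact h j (by omega)
  · rw [ext_two_mul_add_one, ext_two_mul_add_one]; exact congrArg _ (h j (by omega))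

theorem E_a (j : ℕ) : E [2 * j, 0, 0] = δ j * a := by rw [E, ev_cons, ext_two_mul]; rfl

theorem E_one (j : ℕ) : E [2 * j] = δ j := by rw [E, ev_singleton, ext_two_mul]

/-- An element of order three normalising the four-group. -/
noncomputable def r : G := E [6, 6, 4, 7]

namespace Ctx

variable {ρ : G →* T.Mˣ} {φ : K →* Perm ℕ} (X : Ctx ρ φ) (hK : Bd K 177408000) (hc : Cover)
include X hK hc

theorem mod_Z (α : MulAut G) (h : α a = a) :
    ∃ g : G, ∀ k ∈ K, (MulAut.conj g * α) k = k ∨ (MulAut.conj g * α) k = k * a := by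
  have h1 : ∀ β : MulAut G, β a = a → ∀ k ∈ K, β k ∈ K := fun β hβ k hk =>
    X.mem_of_comm hc (hβ ▸ (a_comm hk).map β)
  have h2 : α⁻¹ a = a := by rw [MulAut.inv_def, MulEquiv.symm_apply_eq, h]
  let β : MulAut K :=
    { toFun := fun k => ⟨α k, h1 α h k k.2⟩
      invFun := fun k => ⟨α⁻¹ k, h1 _ h2 k k.2⟩
      left_inv := fun k => Subtype.ext (α.symm_apply_apply k)
      right_inv := fun k => Subtype.ext (α.apply_symm_apply k)
      map_mul' := fun k l => Subtype.ext (map_mul α _ _) }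
  have h3 : β aK = aK := Subtype.ext (by show α aK = _; rw [coe_aK, h])
  obtain ⟨c, hc'⟩ := inner_of_card (out_card (X.cert hK) ((X.cert hK).card.trans (by decide +kernel)))
    (QuotientGroup.congr Z Z β (by
      rw [Z, MonoidHom.map_zpowers]; exact congrArg Subgroup.zpowers h3))
  obtain ⟨c, rfl⟩ := QuotientGroup.mk_surjective c
  refine ⟨(c : G)⁻¹, fun k hk => ?_⟩
  have h4 : ((c * ⟨k, hk⟩ * c⁻¹ : K) : K ⧸ Z) = (β ⟨k, hk⟩ : K) :=
    DFunLike.congr_fun hc' ((⟨k, hk⟩ : K) : K ⧸ Z)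
  have h5 := Z_normal.conj_mem _ (QuotientGroup.eq.1 h4) c⁻¹
  have h6 : (MulAut.conj (c : G)⁻¹ * α) k =
      k * ((c⁻¹ * ((c * ⟨k, hk⟩ * c⁻¹)⁻¹ * β ⟨k, hk⟩) * c⁻¹⁻¹ : K) : G) := by
    show (c : G)⁻¹ * α k * (c : G)⁻¹⁻¹ = k * ((c : G)⁻¹ * ((c * k * (c : G)⁻¹)⁻¹ * α k) * (c : G)⁻¹⁻¹)
    group
  rw [h6]
  exact (mem_Z h5).imp (fun e => by rw [e, mul_one]) fun e => by rw [e]

omit hK hc in
theorem fix_xy (α : MulAut G) (h : ∀ k ∈ K, α k = k ∨ α k = k * a) :
    α (δ 0) = δ 0 ∧ α (δ 1) = δ 1 := by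
  have key : ∀ (W : List (List ℕ)) (m : ℕ) (w : List ℕ) (v j : ℕ), (∀ j < m, α (δ j) = wg δ W j) →
      w ∈ DR → Par.inR w (2 * m) = true → T.moves As v (expand (dbl W) w) j = true → False :=
    fun W m w v j h1 h2 h3 h4 => X.rep.ne T_ok h4 (by
      rw [← E, ← map_word α h1 h3, E, hD w h2, map_one, map_one])
  have h0 := h _ (E_one 0 ▸ mem_K (w := [0]))
  have h1 := h _ (E_one 1 ▸ mem_K (w := [2]))
  have h2 := h _ (E_one 2 ▸ mem_K (w := [4]))
  have h3 : α (δ 1) = δ 1 := h1.resolve_right fun h1 => by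
    rcases h0 with h0 | h0
    · refine key [[0], [2, 0, 0]] 2 (nth [] DR 3) _ _ (fun j hj => ?_) (by decide +kernel)
        (by decide +kernel) (Eq.trans (by congr 1) Ly0)
      interval_cases j
      exacts [h0.trans (E_one 0).symm, h1.trans (E_a 1).symm]
    · refine key [[0, 0, 0], [2, 0, 0]] 2 (nth [] DR 3) _ _ (fun j hj => ?_) (by decide +kernel)
        (by decide +kernel) (Eq.trans (by congr 1) Ly1)
      interval_cases j
      exacts [h0.trans (E_a 0).symm, h1.trans (E_a 1).symm]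
  refine ⟨h0.resolve_right fun h0 => ?_, h3⟩
  rcases h2 with h2 | h2
  · refine key [[0, 0, 0], [2], [4]] 3 (nth [] DR 9) _ _ (fun j hj => ?_) (by decide +kernel)
      (by decide +kernel) (Eq.trans (by congr 1) Lx0)
    interval_cases j
    exacts [h0.trans (E_a 0).symm, h3.trans (E_one 1).symm, h2.trans (E_one 2).symm]
  · refine key [[0, 0, 0], [2], [4, 0, 0]] 3 (nth [] DR 9) _ _ (fun j hj => ?_) (by decide +kernel)
      (by decide +kernel) (Eq.trans (by congr 1) Lx1)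
    interval_cases j
    exacts [h0.trans (E_a 0).symm, h3.trans (E_one 1).symm, h2.trans (E_a 2).symm]

theorem r1 : r⁻¹ * a * r = a * δ 2 := by
  have := X.one hK hc R1
  rw [show ([6, 5, 7, 7, 0, 0, 6, 6, 4, 7, 5, 1, 1] : List ℕ) =
    app (invW [6, 6, 4, 7]) (app [0, 0] (app [6, 6, 4, 7] (invW (app [0, 0] [4])))) by decide +kernel,
    E, ev_app, ev_app, ev_app, ev_invW, ev_invW, ev_app, ← E, ← E, ← E, ← r, ← a, E_one 2] at this
  rw [← mul_inv_eq_one, ← this]; group

theorem r2 : δ 0 * r * (δ 0)⁻¹ * (δ 2)⁻¹ * r = 1 := by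
  have := X.one hK hc R2
  rw [show ([0, 6, 6, 4, 7, 1, 5, 6, 6, 4, 7] : List ℕ) =
    0 :: app [6, 6, 4, 7] (1 :: 5 :: [6, 6, 4, 7]) by decide +kernel,
    E, ev_cons, ev_app, ev_cons _ 1, ev_cons _ 5, ← E, ← r, e0, e1, e5] at this
  rw [← this]; group

theorem r3 : r * a * r⁻¹ = δ 2 := by
  have := X.one hK hc R3
  rw [show ([6, 6, 4, 7, 0, 0, 6, 5, 7, 7, 5] : List ℕ) =
    app [6, 6, 4, 7] (app [0, 0] (app (invW [6, 6, 4, 7]) [5])) by decide +kernel,
    E, ev_app, ev_app, ev_app, ev_invW, ev_singleton, ← E, ← E, ← r, ← a, e5] at this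
  rw [← mul_inv_eq_one, ← this]; group

theorem gen_r {H : Subgroup G} (h1 : K ≤ H) (h2 : r ∈ H) : H = ⊤ := by
  have h3 : ev (ext (wg δ [[0], [2], [4], [6, 6, 4, 7]])) [7, 3, 7, 2, 7, 3, 4] ∈ H :=
    ev_mem _ _ _ fun b _ => ext_wg_mem (fun u hu => by
      simp only [List.mem_cons, List.not_mem_nil, or_false] at hu
      rcases hu with rfl | rfl | rfl | rfl
      exacts [h1 mem_K, h1 mem_K, h1 mem_K, h2]) b
  rw [← ev_expand_dbl] at h3
  have h4 := X.one hK hc R4
  generalize hw : expand (dbl [[0], [2], [4], [6, 6, 4, 7]]) [7, 3, 7, 2, 7, 3, 4] = w at h3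
  rw [show ([6, 5, 2, 6, 6, 4, 7, 3, 6, 6, 4, 7, 2, 6, 6, 4, 7, 0, 0, 6, 5, 7, 7, 3, 6, 5, 7, 7, 2,
    6, 5, 7, 7, 3, 4, 7, 1, 1] : List ℕ) = 6 :: app (invW w) (app [0, 0] (app w (7 :: invW [0, 0])))
    by rw [← hw]; decide +kernel, E, ev_cons, ev_app, ev_app, ev_app, ev_cons _ 7, ev_invW, ev_invW,
    ← E, ← E, ← a, e6, e7] at h4
  have h5 : δ 3 * (E w)⁻¹ ∈ K := X.mem_of_comm hc (by
    rw [← commutatorElement_eq_one_iff_commute, commutatorElement_def, ← h4]; group)
  have h6 : δ 3 ∈ H := by simpa using H.mul_mem (h1 h5) h3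
  rw [eq_top_iff, ← δ_gen]
  refine gp_le fun b hb => ?_
  simp only [List.mem_cons, List.not_mem_nil, or_false] at hb
  rcases hb with rfl | rfl | rfl | rfl
  exacts [h1 (ext_mem_gp δ (by decide)), h1 (ext_mem_gp δ (by decide)),
    h1 (ext_mem_gp δ (by decide)), e6 δ ▸ h6]

theorem inner (α : MulAut G) (h : ∀ j < 3, α (δ j) = δ j) : ∃ g : G, MulAut.conj g * α = 1 := by
  have h0 : ∀ k ∈ K, α k = k := fun k hk => by
    have : K ≤ α.toMonoidHom.eqLocus (MonoidHom.id G) := gp_le fun b hb => ext_mem (h _ (by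
      simp only [List.mem_cons, List.not_mem_nil, or_false] at hb
      omega))
    exact this hk
  have fin : ∀ β : MulAut G, (∀ k ∈ K, β k = k) → β r = r → β = 1 := fun β h1 h2 => by
    have := X.gen_r hK hc (H := β.toMonoidHom.eqLocus (MonoidHom.id G)) h1 h2
    exact MulEquiv.ext fun g => (this ▸ Subgroup.mem_top g : g ∈ β.toMonoidHom.eqLocus (MonoidHom.id G))
  have ha : a ∈ K := mem_K
  have hz : δ 2 ∈ K := E_one 2 ▸ mem_K (w := [4])
  have h1 : r⁻¹ * α r ∈ K := X.mem_of_comm hc (aut_third (h0 _ ha) (h0 _ hz) (X.r3 hK hc))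
  have h2 : ∀ w : List ℕ, wordIn [0, 2, 4] w = true → expand (dbl [[0], [2], [4]]) w = w →
      T.isOne As (app w (4 :: app (invW w) [5])) = true →
      Commute ((⟨_, h1⟩ : K) : K ⧸ Z) (ev (ext (qg Z γ)) w) := fun w hw hw' e => by
    have e1 := X.one hK hc e
    rw [E, ev_app, ev_cons, ev_app, ev_invW, ev_singleton, e4, e5, ← E] at e1
    have e2 : Commute (E w) (δ 2) := by
      rw [← commutatorElement_eq_one_iff_commute, commutatorElement_def, ← e1]; group
    have e3 : Commute (E w) (r⁻¹ * a * r) := by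
      rw [X.r1 hK hc]; exact (a_comm (mem_K hw)).mul_right e2
    have e4 : r * E w * r⁻¹ ∈ K := X.mem_of_comm hc (by
      have := e3.conj r
      rwa [show r * (r⁻¹ * a * r) * r⁻¹ = a by group] at this)
    have e5 := aut_third (h0 _ (mem_K hw)) (h0 _ e4) rfl
    rw [ev_qg]
    exact Commute.map (f := QuotientGroup.mk' Z) (x := ⟨_, h1⟩) (y := ev (ext γ) w) (Subtype.ext (by
      rw [Subgroup.coe_mul, Subgroup.coe_mul, coe_ev hw']; exact e5))
  obtain ⟨i, hi, e⟩ := pow_of_cent (X.cert hK).M (c := [2, 0, 3, 0, 2]) (ok := [0, 7])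
    (cw_cent (X.cert hK)) (by decide +kernel)
    (h2 _ (by decide +kernel) (by decide +kernel) (Eq.trans (by congr 1) C1))
    (h2 _ (by decide +kernel) (by decide +kernel) (Eq.trans (by congr 1) C2))
  have bad : ∀ w : List ℕ, T.moves As (2 ^ 18)
      (0 :: app (app [6, 6, 4, 7] w) (1 :: 5 :: app [6, 6, 4, 7] w)) 1 = true →
      r⁻¹ * α r ≠ E w := fun w hw e => X.rep.ne T_ok hw (by
    have := congrArg α (X.r2 hK hc)
    rw [map_mul, map_mul, map_mul, map_mul, map_inv, map_inv, h 0 (by omega), h 2 (by omega), map_one,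
      inv_mul_eq_iff_eq_mul.1 e] at this
    refine (congrArg ρ ?_).trans (map_one ρ)
    rw [ev_cons, ev_app, ev_cons _ 1, ev_cons _ 5, ev_app, e0, e1, e5, ← E, ← E, ← r, ← this]
    group)
  simp only [List.mem_cons, List.not_mem_nil, or_false] at hi
  rcases hi with rfl | rfl
  · rw [pow_zero, QuotientGroup.eq_one_iff] at e
    rcases mem_Z e with e | e
    · exact ⟨1, by rw [map_one, one_mul]; exact fin α h0 (inv_mul_eq_one.1 e).symm⟩
    · exact absurd e (bad [0, 0] (Eq.trans (by congr 1) Ka))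
  · rw [← ev_pw, eqB_sound (X.cert hK).M (X.cert hK).base (by decide +kernel) trivial trivial
      (v := [4]) (by decide +kernel), ev_qg, eq_comm, QuotientGroup.mk'_apply, QuotientGroup.eq] at e
    have e' := mem_Z e
    rw [Subgroup.coe_mul, Subgroup.coe_inv, coe_ev, E_one 2, inv_mul_eq_one, inv_mul_eq_iff_eq_mul] at e'
    rcases e' with e' | e'
    · refine ⟨a⁻¹, fin _ (fun k hk => ?_) ?_⟩
      · rw [MulAut.mul_apply, h0 k hk, MulAut.conj_apply, (a_comm hk).inv_right.symm.eq]; group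
      · have e1 : α r = r * δ 2 := by rw [e']; group
        have e2 := X.r1 hK hc
        rw [← (a_comm hz).eq] at e2
        rw [MulAut.mul_apply, e1, MulAut.conj_apply, inv_inv, mul_assoc, mul_assoc, ← e2]; group
    · exact absurd (e'.trans (E_a 2).symm) (bad [4, 0, 0] (Eq.trans (by congr 1) Kaz))

theorem exists_beta [Finite G] : ∃ β : MulAut G, β (δ 0) = δ 0 ∧ β (δ 1) = δ 1 ∧ β (δ 2) = δ 2 * a := by
  obtain ⟨f, hf⟩ := lift (p := wg δ [[0], [2], [4, 0, 0], [6, 6, 6]]) (fun j hj => wg_of_le δ hj) (by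
    have key : ∀ w u : List ℕ, expand (dbl [[0], [2], [4, 0, 0], [6, 6, 6]]) w = u → E u = 1 →
        ev (ext (wg δ [[0], [2], [4, 0, 0], [6, 6, 6]])) w = 1 := fun w u h1 h2 => by
      rw [← ev_expand_dbl, h1]; exact h2
    simp only [Holds, DR, List.forall_mem_cons, List.not_mem_nil, IsEmpty.forall_iff, implies_true,
      and_true]
    refine ⟨?_, ?_, ?_, ?_, ?_, ?_, ?_, ?_, ?_, ?_, ?_, ?_, ?_, ?_⟩
    iterate 6 exact key _ _ rfl (hD _ (by decide +kernel))
    exacts [key _ _ (by decide +kernel) (X.one hK hc b6), key _ _ (by decide +kernel) (X.one hK hc b7),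
      key _ _ (by decide +kernel) (X.one hK hc b8), key _ _ (by decide +kernel) (X.one hK hc b9),
      key _ _ (by decide +kernel) (X.one hK hc b10), key _ _ (by decide +kernel) (X.one hK hc b11),
      key _ _ (by decide +kernel) (X.one hK hc b12), key _ _ (by decide +kernel) (X.one hK hc b13)])
  have h0 : f (δ 0) = δ 0 := (hf 0).trans (E_one 0)
  have h1 : f (δ 1) = δ 1 := (hf 1).trans (E_one 1)
  have h2 : f (δ 2) = δ 2 * a := (hf 2).trans (E_a 2)
  have h3 : f (δ 3 * δ 3) = δ 3 := by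
    have h4 := hD [6, 6, 6, 6, 6] (by decide)
    have h5 : f (δ 3) = ev (ext δ) [6, 6, 6] := hf 3
    simp only [ev_cons, ev_nil, e6, mul_one] at h4 h5
    rw [map_mul, h5, mul_assoc, mul_eq_left, ← h4]; group
  have hs : Function.Surjective f := by
    rw [← MonoidHom.range_eq_top, eq_top_iff, ← δ_gen]
    refine gp_le fun b hb => ?_
    simp only [List.mem_cons, List.not_mem_nil, or_false] at hb
    rcases hb with rfl | rfl | rfl | rfl
    · exact ⟨_, h0.trans (e0 δ).symm⟩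
    · exact ⟨_, h1.trans (e2 δ).symm⟩
    · exact ⟨δ 2 * a, by rw [map_mul, h2, a_eq, map_mul, h0, ← a_eq, mul_assoc, a_aux.1, mul_one, e4]⟩
    · exact ⟨_, h3.trans (e6 δ).symm⟩
  exact ⟨MulEquiv.ofBijective f ⟨Finite.injective_iff_surjective.2 hs, hs⟩, h0, h1, h2⟩

theorem out [Finite G] : Nat.card (Cfsg.Out G) = 2 := by
  obtain ⟨β, b0, b1, b2⟩ := X.exists_beta hK hc
  have hz : δ 2 ∈ K := E_one 2 ▸ mem_K (w := [4])
  refine card_out_eq_two (β := β) (fun g hg => ?_) fun α => ?_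
  · subst hg
    simp only [MulAut.conj_apply, mul_inv_eq_iff_eq_mul] at b0 b1
    have h1 : g ∈ K := X.mem_of_comm hc (by rw [a_eq]; exact Commute.mul_right b0 b0)
    have h2 : ∀ j, Commute ((⟨g, h1⟩ : K) : K ⧸ Z) (qg Z γ j) := fun j => by
      by_cases hj : j < 2
      · refine Commute.map (f := QuotientGroup.mk' Z) (x := ⟨g, h1⟩) (Subtype.ext ?_)
        rw [Subgroup.coe_mul, Subgroup.coe_mul, coe_γ (by omega)]
        interval_cases j
        exacts [b0, b1]
      · by_cases hj' : j = 2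
        · subst hj'
          have : (⟨g, h1⟩ * γ 2 : K) = γ 2 * ⟨g, h1⟩ * aK := Subtype.ext (by
            rw [Subgroup.coe_mul, Subgroup.coe_mul, Subgroup.coe_mul, coe_γ (by omega), coe_aK,
              mul_assoc, (a_comm h1).eq, ← mul_assoc, ← b2]
            simp)
          show ((⟨g, h1⟩ * γ 2 : K) : K ⧸ Z) = (γ 2 * ⟨g, h1⟩ : K)
          rw [this]
          exact QuotientGroup.mk_mul_of_mem (s := Z) _ (Subgroup.mem_zpowers aK)
        · rw [qg, γ_le (by omega), map_one]; exact Commute.one_right _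
    have h3 : ∀ w, Commute ((⟨g, h1⟩ : K) : K ⧸ Z) (ev (ext (qg Z γ)) w) := fun w =>
      (Subgroup.mem_centralizer_singleton_iff.1 (ev_mem _ (Subgroup.centralizer {_}) w fun b _ =>
        ext_mem (Subgroup.mem_centralizer_singleton_iff.2 (h2 _).symm))).symm
    obtain ⟨i, hi, e⟩ := pow_of_cent (X.cert hK).M (c := [0]) (ok := [0]) (cx_cent (X.cert hK))
      (by decide +kernel) (h3 _) (h3 _)
    rw [List.mem_singleton.1 hi, pow_zero, QuotientGroup.eq_one_iff] at e
    have h4 : g * δ 2 * g⁻¹ = δ 2 := by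
      rcases mem_Z e with e | e
      · rw [show g = 1 from e]; group
      · rw [show g = a from e, ← (a_comm hz).eq]; group
    exact X.a_ne_one (mul_eq_left.1 (b2.symm.trans h4))
  · obtain ⟨g1, h1⟩ := X.fix_a hK hc α
    obtain ⟨g2, h2⟩ := X.mod_Z hK hc _ h1
    obtain ⟨h3, h4⟩ := X.fix_xy _ h2
    rw [← mul_assoc, ← map_mul] at h2 h3 h4
    rcases h2 _ hz with h5 | h5
    · obtain ⟨g, hg⟩ := X.inner hK hc _ fun j hj => by
        interval_cases j
        exacts [h3, h4, h5]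
      exact ⟨g * (g2 * g1), Or.inl (by rw [map_mul, mul_assoc]; exact hg)⟩
    · obtain ⟨g, hg⟩ := X.inner hK hc (β⁻¹ * (MulAut.conj (g2 * g1) * α)) fun j hj => by
        rw [MulAut.mul_apply, MulAut.inv_def, MulEquiv.symm_apply_eq]
        interval_cases j
        exacts [h3.trans b0.symm, h4.trans b1.symm, h5.trans b2.symm]
      refine ⟨β g * (g2 * g1), Or.inr ?_⟩
      have e : MulAut.conj (β g) = β * MulAut.conj g * β⁻¹ := by
        ext x; simp [MulAut.conj_apply]
      rw [map_mul, e, mul_assoc, mul_assoc, mul_assoc, hg, mul_one]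

end Ctx

theorem out_of (hK : Bd K 177408000) (hc : Cover) [Finite G] : Nat.card (Cfsg.Out G) = 2 := by
  obtain ⟨ρ, φ, X⟩ := exists_ctx
  exact X.out hK hc

end Cfsg.Agent.HNO
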