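import Cfsg.Agent.HNO.Core

set_option autoImplicit false
set_option linter.style.haveILetI false

/-! An automorphism of the Harada–Norton group fixes the involution up to conjugacy. -/

namespace Cfsg.Agent.HNO

open Cfsg.Agent.CGT Cfsg.Agent.PM Equiv

/-- An element of order eleven modulo the centre. -/
noncomputable def f0 : K := ev (ext γ) cx_S.u

/-- An element of order eleven. -/
noncomputable def f : K := f0 ^ 2

/-- The double cosets. -/
def Cover : Prop := ∀ g : G, g ∈ K ∨ ∃ W c, T.diaB As 100 V U (app W (app [0, 0] (invW W))) c 11 = true ∧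
  ∃ k1 ∈ K, ∃ k2 ∈ K, g = k1 * E W * k2

theorem pow_of_cent {X : Type*} [Group X] {φ : X →* Perm ℕ} {p : ℕ → X} (M : Model φ p 7 m_ns m_ts)
    {u c ok : List ℕ} {n : ℕ} (h : Cent p u [] n)
    (hk : (allLt (n + 1) fun i => memL i ok ||
      movesD 7 m_ts [pw u i, invW (pw u i), c, invW c] 0 [0, 2, 1, 3]) = true) {k : X}
    (h1 : Commute k (ev (ext p) u)) (h2 : Commute k (ev (ext p) c)) :
    ∃ i ∈ ok, k = ev (ext p) u ^ i := by
  obtain ⟨i, hi, j, e⟩ := h k h1
  have e' : k = ev (ext p) u ^ i := e.trans (one_mul _)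
  have := allLt_iff.1 hk i (by omega)
  rw [Bool.or_eq_true] at this
  refine this.elim (fun h => ⟨i, memL_sound h, e'⟩) fun h => absurd ?_ (movesD_sound M h)
  show ev (ext p) (pw u i) * (ev (ext p) c * (ev (ext p) (invW (pw u i)) *
    (ev (ext p) (invW c) * 1))) = 1
  rw [ev_invW, ev_invW, ev_pw, ← e', ← mul_assoc, h2.eq]; group

theorem conj_map {X Y : Type*} [Group X] [Group Y] (ρ : X →* Y) {x y : X} (h : Commute (ρ x) (ρ y))
    (k : X) : Commute (ρ (k * x * k⁻¹)) (ρ (k * y * k⁻¹)) := by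
  simpa using h.conj (ρ k)

namespace Ctx

variable {ρ : G →* T.Mˣ} {φ : K →* Perm ℕ} (X : Ctx ρ φ) (hK : Bd K 177408000)
include X

theorem φf_pow : φ f0 ^ 11 = 1 := by
  rw [f0, X.M.map_ev', ← ev_pw]
  exact eqW_sound (v := []) m_v (by decide +kernel)

theorem φf_fix {i : ℕ} (hi : i < 100) (h : φ f i = i) : i = 89 := by
  have key : (allLt 100 fun i => Nat.beq i 89 ||
    !(Nat.beq (ap 7 (msk 7) m_ts (pw cx_S.u 2) i) i)) = true := by decide +kernel
  have := allLt_iff.1 key i hi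
  rw [X.M.ap' _ (by omega), ev_pw, ← f0, ← f, h] at this
  simpa using this

theorem key (hc : Cover) {g : G} (h : Commute (ρ f) (ρ (g * a * g⁻¹))) : g ∈ K := by
  rcases hc g with h1 | ⟨W, c, h1, k1, hk1, k2, hk2, rfl⟩
  · exact h1
  exfalso
  let k : K := ⟨k1, hk1⟩
  refine Par.diaB_sound T_ok X.rep (by decide) V_rows U_rows rfl h1 (by norm_num)
    (X.act (k⁻¹ * f * k)).1 ?_ (b := (φ k)⁻¹ 89) (fun i hi e => ?_) (X.act (k⁻¹ * f * k)).2 ?_
  · rw [← map_pow, show k⁻¹ * f * k = k⁻¹ * f * k⁻¹⁻¹ by rw [inv_inv], conj_pow, map_mul, map_mul, f,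
      ← pow_mul, mul_comm 2, pow_mul, map_pow, map_pow, X.φf_pow]
    simp
  · rw [map_mul, map_mul, map_inv, Perm.mul_apply, Perm.mul_apply, Perm.inv_eq_iff_eq] at e
    rw [Perm.eq_inv_iff_eq]
    exact X.φf_fix (bddPerm_lt (X.act k).1 hi) e
  · rw [← Par.ev_coe, Commute.units_val_iff, ev_app, ev_app, ev_invW]
    have e1 : k1 * E W * k2 * a * (k1 * E W * k2)⁻¹ = k1 * (E W * (a * (E W)⁻¹)) * k1⁻¹ := by
      rw [mul_assoc _ k2, (a_comm hk2).eq]; group
    rw [e1] at h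
    have e2 : ((k⁻¹ * f * k : K) : G) = k1⁻¹ * f * k1⁻¹⁻¹ := by rw [inv_inv]; rfl
    have e3 : E W * (ev (ext δ) [0, 0] * (E W)⁻¹) =
        k1⁻¹ * (k1 * (E W * (a * (E W)⁻¹)) * k1⁻¹) * k1⁻¹⁻¹ := by rw [a]; group
    rw [e2, e3]
    exact conj_map ρ h _

theorem mem_of_comm (hc : Cover) {g : G} (h : Commute g a) : g ∈ K :=
  X.key hc (by rw [h.eq, mul_inv_cancel_right]; exact (a_comm f.2).map ρ)

include hK

theorem mem_Z_of {k : K} (h : φ k = 1) : k ∈ Z :=
  (QuotientGroup.eq_one_iff k).1 ((X.cert hK).injective (by rw [map_one]; exact h))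

theorem inj (hc : Cover) {n : G} (h : ρ n = 1) : n = 1 := by
  have h1 : n ∈ K := X.key hc (by
    rw [map_mul, map_mul, map_inv, h, one_mul, inv_one, mul_one]; exact (a_comm f.2).map ρ)
  have h2 : φ ⟨n, h1⟩ = 1 := Equiv.ext fun i => by
    by_cases hi : i < 100
    · have := ((X.act ⟨n, h1⟩).2 i hi).1
      rw [h, Units.val_one, Matrix.vecMul_one] at this
      exact V_inj (bddPerm_lt (X.act _).1 hi) hi this
    · exact (X.act _).1 i (by omega)
  exact (mem_Z (X.mem_Z_of hK h2)).resolve_right fun e => X.ρa_ne (by rw [← h]; exact congrArg ρ e.symm)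

theorem one (hc : Cover) {w : List ℕ} (h : T.isOne As w = true) : E w = 1 :=
  X.inj hK hc (X.rep.one T_ok h)

theorem card_K : Nat.card K = 177408000 := by
  haveI := hK.1
  have h1 := Subgroup.card_eq_card_quotient_mul_card_subgroup Z
  have h2 : Nat.card (K ⧸ Z) = 88704000 := (X.cert hK).card.trans (by decide +kernel)
  have h3 : Nat.card Z ≠ 1 := fun h => X.a_ne_one (by
    have : aK ∈ Z := Subgroup.mem_zpowers _
    rw [Subgroup.card_eq_one.1 h, Subgroup.mem_bot] at this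
    rw [← coe_aK, this]; rfl)
  have h4 : 0 < Nat.card Z := Nat.card_pos
  have h5 := hK.2
  rw [h2] at h1
  omega

theorem f_order : orderOf (f : G) = 11 := by
  haveI : Fact (Nat.Prime 11) := ⟨by norm_num⟩
  refine orderOf_eq_prime ?_ fun h => ?_
  · have h1 : f0 ^ 11 ∈ Z := X.mem_Z_of hK (by rw [map_pow, X.φf_pow])
    have h2 : (f : G) ^ 11 = ((f0 ^ 11 : K) : G) ^ 2 := by
      rw [f, Subgroup.coe_pow, Subgroup.coe_pow, ← pow_mul, ← pow_mul]
    rw [h2]
    rcases mem_Z h1 with h | h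
    · rw [h, one_pow]
    · rw [h, sq, a_aux.1]
  · have : f = 1 := Subtype.ext h
    exact absurd (X.φf_fix (i := 0) (by omega) (by rw [this, map_one]; rfl)) (by decide)

theorem not_dvd (hc : Cover) [Finite G] : ¬ 11 ^ 2 ∣ Nat.card G := fun h => by
  haveI : Fact (Nat.Prime 11) := ⟨by norm_num⟩
  have h1 := Sylow.prime_pow_dvd_card_normalizer (n := 1) h (H := Subgroup.zpowers (f : G))
    (by rw [Nat.card_zpowers, X.f_order hK, pow_one])
  have h2 : Subgroup.normalizer (Subgroup.zpowers (f : G) : Set G) ≤ K := fun g hg => by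
    have h3 : g⁻¹ * f * g⁻¹⁻¹ ∈ Subgroup.zpowers (f : G) :=
      (Subgroup.mem_normalizer_iff.1 (Subgroup.inv_mem _ hg) _).1 (Subgroup.mem_zpowers _)
    have h4 := (a_comm (Subgroup.zpowers_le_of_mem f.2 h3)).conj g
    refine X.key hc (Commute.map ?_ ρ)
    convert h4 using 1
    group
  have := h1.trans (Subgroup.card_dvd_of_le h2)
  rw [X.card_K hK] at this
  exact absurd this (by decide)

theorem comm_f0 {k : K} (h : Commute k f) :
    Commute (k : K ⧸ Z) (ev (ext (qg Z γ)) cx_S.u) := by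
  rw [ev_qg]
  have h1 : (QuotientGroup.mk' Z f0) ^ 11 = 1 := by
    rw [← map_pow]
    exact (QuotientGroup.eq_one_iff _).2 (X.mem_Z_of hK (by rw [map_pow, X.φf_pow]))
  have h2 : QuotientGroup.mk' Z f0 = (QuotientGroup.mk' Z f) ^ 6 := by
    rw [f, map_pow, ← pow_mul, show 2 * 6 = 11 + 1 from rfl, pow_succ, h1, one_mul]
  rw [← f0, h2]
  exact (h.map (QuotientGroup.mk' Z)).pow_right 6

theorem fix_a (hc : Cover) [Finite G] (α : MulAut G) : ∃ g : G, (MulAut.conj g * α) a = a := by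
  obtain ⟨g, k, hk0, hk, e⟩ := exists_conj_pow (by norm_num) (X.not_dvd hK hc) (X.f_order hK)
    (z := α f) (by rw [α.orderOf_eq, X.f_order hK])
  refine ⟨g, ?_⟩
  change (MulAut.conj g * α) f = _ at e
  generalize MulAut.conj g * α = β at e
  have h1 : Commute (β a) ((f : G) ^ k) := e ▸ (a_comm f.2).symm.map β
  have h2 : Commute (β a) f := by
    have h3 : (f : G) ∈ Subgroup.zpowers ((f : G) ^ k) := by
      rw [mem_zpowers_pow_iff, X.f_order hK]
      exact Nat.Coprime.symm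
        ((Nat.Prime.coprime_iff_not_dvd (by norm_num)).2 (Nat.not_dvd_of_pos_of_lt hk0 hk))
    obtain ⟨m, hm⟩ := h3
    exact hm ▸ h1.zpow_right m
  have h3 : β a ∈ K := X.key hc (Commute.map
    ((h2.symm.mul_right (a_comm f.2)).mul_right h2.symm.inv_right) ρ)
  have h4 : β a * β a = 1 := by rw [← map_mul, a_aux.1, map_one]
  obtain ⟨m, hm⟩ := (cx_cent (X.cert hK)).zpowers _ (X.comm_f0 hK (k := ⟨β a, h3⟩) (Subtype.ext h2))
  have h5 : ((⟨β a, h3⟩ : K) : K ⧸ Z) ^ 11 = 1 := by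
    rw [← hm, ← zpow_natCast, ← zpow_mul, mul_comm, zpow_mul, zpow_natCast, ev_qg, ← map_pow,
      show QuotientGroup.mk' Z (ev (ext γ) cx_S.u ^ 11) = 1 from
        (QuotientGroup.eq_one_iff _).2 (X.mem_Z_of hK (by rw [map_pow]; exact X.φf_pow)), one_zpow]
  have h6 : ((⟨β a, h3⟩ : K) : K ⧸ Z) ^ 2 = 1 := by
    rw [sq, ← QuotientGroup.mk_mul, show (⟨β a, h3⟩ * ⟨β a, h3⟩ : K) = 1 from Subtype.ext h4]; rfl
  rw [show 11 = 2 * 5 + 1 from rfl, pow_succ, pow_mul, h6, one_pow, one_mul] at h5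
  exact (mem_Z ((QuotientGroup.eq_one_iff _).1 h5)).resolve_left fun h =>
    X.a_ne_one (β.injective (h.trans (map_one β).symm))

end Ctx

end Cfsg.Agent.HNO
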