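import Cfsg.Agent.HNO.Tabs

set_option autoImplicit false
set_option Elab.async false
set_option maxRecDepth 100000
set_option linter.all false

namespace Cfsg.Agent.HNO
open Cfsg.Agent.CGT

noncomputable def cu_l0 : Level := ⟨0, [[0], [2], [4]], [], 0xfffffffffffffffffffffffff, 100⟩
noncomputable def cu_l1 : Level := ⟨1, [[1, 4], [3, 3], [3, 4, 2]], [], 0x9a75c7efd7b7ebfbfd3ffeffe, 77⟩
noncomputable def cu_l2 : Level := ⟨2, [[1, 4], [2, 2, 1, 4, 3, 3], [3, 3, 1, 4, 2, 2], [3, 3, 3, 5, 3, 3, 4, 2, 2, 2]], [0, 1, 3, 0, 1, 2, 3, 0, 1, 3], 0xa74c306c7a7e3fbbd3d7eefc, 60⟩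
noncomputable def cu_l3 : Level := ⟨57, [[3, 3, 5, 0, 2, 2, 2, 2, 1, 4, 3, 3, 1, 4], [3, 3, 3, 5, 2, 2, 4, 2, 2, 2, 2, 2, 1, 4, 3, 3, 3, 3, 3, 5, 3, 3, 4, 2, 2, 2], [3, 3, 3, 5, 3, 3, 4, 2, 1, 4, 3, 5, 2, 2, 4, 2, 2, 2], [3, 3, 5, 0, 3, 5, 2, 2, 4, 2, 2, 2, 1, 4, 3, 3, 3, 5, 3, 3, 4, 2, 1, 4, 2, 2], [3, 3, 5, 0, 3, 5, 2, 2, 4, 2, 1, 4, 3, 5, 3, 3, 4, 2, 1, 4, 2, 2]], [], 0x20400200000000000000, 3⟩
noncomputable def cu_l4 : Level := ⟨77, [[0, 3, 3, 4, 0, 3, 4, 3, 4, 0, 3, 4, 2, 2, 4, 2, 4]], [], 0x20400000000000000000, 2⟩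
noncomputable def cu_l5 : Level := ⟨4, [[3, 0, 3, 4, 3, 4, 3, 4, 2, 4, 2, 0, 2, 0, 2], [2, 2, 0, 3, 4, 3, 4, 3, 4, 2, 4, 2, 0, 2, 0, 3, 3]], [], 0x4000000000000001010010, 4⟩
noncomputable def cu_l6 : Level := ⟨76, [[2, 4, 2, 2, 0, 2, 2, 4, 0, 2, 2, 0, 2, 2, 4, 2], [0, 2, 2, 4, 3, 4, 2, 2, 4, 3, 0, 2, 2, 4, 2, 4, 3]], [], 0x810080020000000000000, 4⟩
noncomputable def cu_l7 : Level := ⟨58, [[4, 0, 2, 2, 2, 4, 2, 2, 2, 4, 2, 2, 2, 0]], [], 0x1000400000000000000, 2⟩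
noncomputable def cu_ls : List Level := [cu_l0, cu_l1, cu_l2, cu_l3, cu_l4, cu_l5, cu_l6, cu_l7]
noncomputable def cu_S : Srch := ⟨7, m_ts, (chainBase [] c_ls), [0, 3, 3, 4, 3, 0, 3, 0, 3, 0, 2, 4, 2, 2, 0, 3, 3], [0, 3, 3, 4, 3, 0, 3, 0, 3, 0, 2, 4, 2, 2, 0, 3, 3], [[2, 2, 4, 2, 0, 2, 4, 2, 2, 4, 2, 0, 2, 0, 2, 2, 0], [3, 0, 2, 0, 3, 3, 4, 3, 4, 3, 0, 3, 4, 2, 2, 2, 4, 0, 2, 2, 4], [0, 2, 2, 2, 0, 3, 0, 3, 4, 3, 4, 3, 3, 4, 0, 3, 4, 3, 3, 0, 3, 3], [3, 3, 0, 2, 2, 0, 3, 3, 0, 3, 0, 3, 4, 3, 4, 2, 2, 2, 0, 2, 2], [0, 2, 4, 2, 2, 4, 3, 0, 3, 4, 2, 2, 2, 4, 3, 4, 3, 0, 3, 0], [4, 2, 2, 4, 2, 4, 3, 3, 4, 3, 3, 4, 3, 0, 2, 0, 2, 0, 2, 0], [3, 3, 0, 2, 2, 2, 4, 2, 4, 2, 0, 2, 0, 2, 2, 0, 3, 3, 0, 2, 2], [2, 0, 3, 3, 0, 3, 3, 0, 2, 2, 2, 4, 3, 0, 3, 4, 2, 2, 2, 4], [4, 3, 3, 0, 3, 4, 2, 4, 2, 4, 2, 2, 0, 3, 3]]⟩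
noncomputable def cu_lk : List ℕ := [1, 2, 3, 58, 0, 5, 77]
noncomputable def cu_tl : List Level := [cu_l1, cu_l2, cu_l3, cu_l4, cu_l5, cu_l6, cu_l7]
noncomputable def cu_R0 : ℕ := 0x200a00240011402804a2113f9
theorem cu_l0_ok : cu_l0.okT 7 m_ts [0, 2, 4] [] (.cons [0] (.cons [2] (.cons [0] (.cons [2] (.cons [0] (.cons [3] (.cons [0] .nil .nil) .nil) .nil) (.cons [3] (.cons [0] .nil (.cons [3] .nil .nil)) .nil)) .nil) (.cons [3] (.cons [0] (.cons [2] (.cons [0] (.cons [2] (.cons [0] .nil .nil) .nil) (.cons [2] (.cons [0] (.cons [3] (.cons [0] .nil (.cons [3] .nil .nil)) .nil) (.cons [4] (.cons [2] (.cons [0] .nil (.cons [2] (.cons [0] .nil (.cons [4] .nil .nil)) .nil)) .nil) .nil)) .nil)) (.cons [3] (.cons [0] .nil .nil) .nil)) .nil) .nil)) (.cons [2] (.cons [0] (.cons [2] (.cons [0] (.cons [2] (.cons [0] (.cons [3] (.cons [0] (.cons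 [3] (.cons [0] .nil .nil) .nil) .nil) (.cons [4] (.cons [3] .nil .nil) .nil)) (.cons [4] (.cons [2] (.cons [0] .nil (.cons [2] (.cons [0] (.cons [3] (.cons [0] .nil .nil) .nil) (.cons [4] .nil .nil)) .nil)) .nil) .nil)) .nil) (.cons [2] (.cons [0] (.cons [3] (.cons [0] (.cons [4] .nil .nil) (.cons [3] .nil (.cons [4] (.cons [2] (.cons [2] (.cons [0] (.cons [3] .nil .nil) .nil) .nil) .nil) .nil))) .nil) (.cons [2] (.cons [0] (.cons [2] (.cons [0] .nil .nil) (.cons [3] (.cons [0] .nil .nil) .nil)) .nil) (.cons [4] (.cons [2] (.cons [0] (.cons [3] .nil (.cons [4] .nil .nil)) (.cons [2] (.cons [0] .nil .nil) (.cons [4] (.cons [3] (.cons [3] (.cons [0] .nil .nil) .nil) .nil) .nil))) .nil) .nil))) .nil)) (.cons [3] (.cons [0] (.cons [3] (.cons [0] (.cons [2] (.cons [0] (.cons [2] (.cons [0] .nil (.cons [2] (.cons [0] (.cons [2] .nil .nil)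 .nil) .nil)) (.cons [3] .nil .nil)) (.cons [2] .nil .nil)) (.cons [4] (.cons [2] (.cons [2] (.cons [0] .nil .nil) .nil) .nil) .nil)) (.cons [4] (.cons [3] (.cons [0] .nil (.cons [3] .nil .nil)) .nil) .nil)) .nil) (.cons [3] .nil .nil)) .nil)) .nil) .nil)) = true := by decide +kernel
theorem cu_l1_ok : cu_l1.okT 7 m_ts [0, 2, 4] [0] (.cons [2] (.cons [4] (.cons [2] (.cons [0] (.cons [4] (.cons [0] .nil (.cons [2] .nil (.cons [3] (.cons [0] .nil .nil) .nil))) .nil) .nil) (.cons [3] (.cons [4] (.cons [0] (.cons [3] (.cons [4] (.cons [0] .nil .nil) .nil) .nil) (.cons [2] (.cons [0] .nil .nil) (.cons [3] (.cons [0] .nil (.cons [4] .nil .nil)) .nil))) .nil) .nil)) .nil) (.cons [3] (.cons [4] (.cons [0] (.cons [2] .nil (.cons [3] (.cons [4] (.cons [0] (.cons [2] .nil .nil) (.cons [3] (.cons [0] .nil .nil) .nil)) .nil) .nil)) .nil) .nil) (.cons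 [4] (.cons [0] (.cons [2] .nil (.cons [3] (.cons [4] (.cons [2] .nil (.cons [3] .nil .nil)) .nil) (.cons [4] (.cons [2] (.cons [4] .nil .nil) (.cons [3] .nil .nil)) .nil))) (.cons [2] (.cons [0] (.cons [2] (.cons [4] (.cons [3] (.cons [0] .nil .nil) (.cons [0] (.cons [2] .nil (.cons [4] .nil .nil)) (.cons [2] .nil .nil))) .nil) .nil) (.cons [4] (.cons [0] (.cons [2] (.cons [0] (.cons [4] .nil .nil) (.cons [4] .nil .nil)) (.cons [3] .nil .nil)) (.cons [2] (.cons [0] (.cons [2] (.cons [0] .nil .nil) (.cons [3] (.cons [0] .nil (.cons [4] (.cons [2] .nil .nil) .nil)) .nil)) (.cons [4] .nil .nil)) (.cons [3] (.cons [0] (.cons [2] .nil (.cons [3] (.cons [0] .nil (.cons [4] (.cons [0] .nil .nil) .nil)) .nil)) (.cons [4] .nil .nil)) .nil))) .nil)) (.cons [3] .nil .nil))) .nil))) = true := by decide +kernel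
theorem cu_l2_ok : (ptsOK 7 [1, 0] && (wordsIn [0, 2, 4] cu_l2.S && cu_l2.ok 7 m_ns m_ts [1, 0])) = true := by decide +kernel
theorem cu_l3_ok : cu_l3.okT 7 m_ts [0, 2, 4] [2, 1, 0] (.cons [0] .nil (.cons [4] .nil .nil)) = true := by decide +kernel
theorem cu_l4_ok : cu_l4.okT 7 m_ts [0, 2, 4] [57, 2, 1, 0] (.cons [0] .nil .nil) = true := by decide +kernel
theorem cu_l5_ok : cu_l5.okT 7 m_ts [0, 2, 4] [77, 57, 2, 1, 0] (.cons [0] (.cons [2] .nil .nil) (.cons [2] .nil .nil)) = true := by decide +kernel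
theorem cu_l6_ok : cu_l6.okT 7 m_ts [0, 2, 4] [4, 77, 57, 2, 1, 0] (.cons [0] (.cons [2] .nil .nil) (.cons [2] .nil .nil)) = true := by decide +kernel
theorem cu_l7_ok : cu_l7.okT 7 m_ts [0, 2, 4] [76, 4, 77, 57, 2, 1, 0] (.cons [0] .nil .nil) = true := by decide +kernel
theorem cu_aux : cu_S.auxB [0, 2, 4] cu_ls [] (0 :: cu_lk) = true := by decide +kernel
theorem cu_cov : Nat.beq (Nat.land cu_l0.O (Srch.cover m_ns (invW cu_S.u') cu_R0 4)) cu_l0.O = true := by decide +kernel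
theorem cu_r0 : cu_S.run (.cons [] (.cons [] (.cons [] (.cons [] (.cons [] (.cons [] (.cons [] (.cons [] (.leaf 2000) .nil) .nil) (.cons [0] (.cons [2] (.cons [] (.leaf 0) .nil) .nil) (.cons [2] (.cons [2, 0] .nil .nil) (.cons [2, 0] (.cons [0] .nil .nil) .nil)))) .nil) .nil) .nil) .nil) (.cons [2, 0] (.cons [4, 2, 4] (.cons [6, 4, 7, 0] .nil .nil) .nil) (.cons [3, 0] (.cons [2, 4, 2, 4] (.cons [0] .nil .nil) .nil) (.cons [0, 2] (.cons [0, 3, 0, 3, 4, 2, 4] (.cons [6] (.cons [0] (.cons [] (.cons [] (.cons [0] (.cons [0] (.leaf 2) .nil) .nil) (.cons [0] (.cons [2, 0] (.cons [0] (.leaf 4) .nil) .nil) (.cons [2] (.cons [2] .nil .nil) (.cons [2, 0] (.cons [] .nil .nil) .nil)))) .nil) .nil) .nil) .nil) (.cons [0, 2, 0] (.cons [3, 0, 4, 3, 4, 2] (.cons [4, 7, 4] (.cons [4] (.cons [] (.cons [] (.cons [0] (.cons [0] (.leaf 6) .nil) .nil) (.cons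 [0] (.cons [2, 0] (.cons [0] (.leaf 8) .nil) .nil) (.cons [2] (.cons [2] .nil .nil) (.cons [2, 0] (.cons [] .nil .nil) .nil)))) .nil) .nil) .nil) .nil) (.cons [2, 0, 2] (.cons [3, 0, 3, 4, 2, 4] (.cons [7, 0, 6, 2] (.cons [4] (.cons [] (.cons [] (.cons [2] (.cons [] (.leaf 10) .nil) .nil) (.cons [0] (.cons [] (.cons [] (.leaf 12) .nil) .nil) (.cons [2] (.cons [0] .nil .nil) (.cons [2, 0] (.cons [2, 0] .nil .nil) .nil)))) .nil) .nil) .nil) .nil) (.cons [0, 3, 0] (.cons [2, 4, 2, 0, 2, 4] (.cons [7, 2, 6, 0, 7] .nil .nil) .nil) (.cons [2, 0, 2, 0] (.cons [4, 2, 0, 4, 2, 4] (.cons [7, 4, 2, 7, 4] .nil .nil) .nil) (.cons [3, 0, 3, 0] (.cons [3, 4, 2, 4] (.cons [6, 4, 6, 2] .nil .nil) .nil) (.cons [0, 3, 0, 2] (.cons [4, 3, 0, 2, 4, 2, 4] (.cons [7, 2, 6, 0] .nil .nil) .nil) (.cons [0, 2, 0, 2, 0] (.cons [3, 0, 4, 2, 4] (.cons [2] (.cons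 [] (.cons [] (.cons [] (.cons [2] .nil .nil) (.cons [0] (.cons [] .nil .nil) (.cons [2] (.cons [0] (.cons [] (.leaf 14) .nil) .nil) (.cons [2, 0] (.cons [2, 0] (.cons [] (.leaf 16) .nil) .nil) .nil)))) .nil) .nil) .nil) .nil) (.cons [2, 2, 2, 0, 2] (.cons [4, 2, 0, 4, 2, 4] (.cons [7, 4] .nil .nil) .nil) (.cons [0, 3, 0, 2, 0] (.cons [2, 0, 4, 3, 0, 4, 3] (.cons [6] .nil .nil) .nil) (.cons [3, 3, 0, 2, 0] .nil (.cons [3, 0, 2, 0, 2, 0] (.cons [0, 4, 3, 0, 4, 3] (.cons [2, 7, 4] .nil .nil) .nil) (.cons [2, 4, 2, 2, 0, 2] (.cons [3, 0, 4, 2, 4] .nil .nil) (.cons [0, 2, 2, 0, 3, 0] (.cons [4, 0, 2, 0, 4, 2, 4] (.cons [6, 4, 6, 2] .nil .nil) .nil) (.cons [4, 0, 2, 0, 2, 0, 2] (.cons [4, 3, 4, 3, 4, 2] .nil .nil) (.cons [3, 3, 0, 2, 2, 0, 2] .nil (.cons [0, 3, 0, 2, 0, 2, 0] .nil (.cons [4, 0, 2, 4, 2, 2, 0, 2] .nil (.cons [0, 3, 0, 2, 2,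 0, 3, 0] .nil (.cons [0, 2, 0, 2, 0, 3, 0, 3, 0, 2] .nil (.cons [0, 3, 0, 3, 0, 2, 0, 2, 0, 2] .nil .nil)))))))))))))))))))))))) (⟨cu_l0.b, cu_l0.S, [], cu_R0, 0⟩ :: cu_tl) (0 :: cu_lk) Pd.nil 0 = true := by decide +kernel
theorem cu_sound {G : Type*} [Group G] {φ : G →* Equiv.Perm ℕ} {γ : ℕ → G}
    (M : Model φ γ 7 m_ns m_ts) : ChainSound φ (gp γ [0, 2, 4]) 7 [] cu_ls :=
  ⟨Level.okT_sound M cu_l0_ok,
   Level.okT_sound M cu_l1_ok,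
   Level.ok_sound' M cu_l2_ok,
   Level.okT_sound M cu_l3_ok,
   Level.okT_sound M cu_l4_ok,
   Level.okT_sound M cu_l5_ok,
   Level.okT_sound M cu_l6_ok,
   Level.okT_sound M cu_l7_ok, trivial⟩
theorem cu_cent {G : Type*} [Group G] {φ : G →* Equiv.Perm ℕ} {γ : ℕ → G}
    (C : Cert φ γ 7 m_ns m_ts [0, 2, 4] c_ls) : Cent γ cu_S.u cu_S.Cl 4 :=
  have X := (C.rechain (cu_sound C.M) (by decide +kernel)).exact
  have A := Srch.auxB_sound (S := cu_S) C.M (K := ⊤) le_top rfl cu_aux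
  have F := fun {tr : Tr} {R : ℕ} => Srch.found_of_run (S := cu_S) C.M C.base (by decide +kernel) X A (tr := tr) (R := R)
  Cent.of_found (S := cu_S) C.M X rfl (F cu_r0) cu_cov

end Cfsg.Agent.HNO
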