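import Cfsg.Agent.HNO.Tabs

set_option autoImplicit false
set_option Elab.async false
set_option maxRecDepth 100000
set_option linter.all false

namespace Cfsg.Agent.HNO
open Cfsg.Agent.CGT

noncomputable def cx_l0 : Level := ⟨0, [[0], [2], [4]], [], 0xfffffffffffffffffffffffff, 100⟩
noncomputable def cx_l1 : Level := ⟨1, [[1, 4], [3, 3], [3, 4, 2]], [], 0x9a75c7efd7b7ebfbfd3ffeffe, 77⟩
noncomputable def cx_l2 : Level := ⟨12, [[1, 4], [2, 2, 1, 4, 3, 3], [3, 3, 1, 4, 2, 2], [3, 3, 3, 5, 3, 3, 4, 2, 2, 2]], [], 0x4182301028481400028001000, 16⟩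
noncomputable def cx_l3 : Level := ⟨21, [[4, 2, 2, 0, 3, 3, 4, 0, 2, 2, 0, 3, 3, 0], [2, 2, 0, 3, 0, 3, 0, 2, 2, 2, 0, 3, 0, 2, 0], [2, 0, 3, 3, 0, 3, 3, 4, 3, 4, 3, 3, 0, 3, 3, 0, 2]], [], 0x4e900000800000280100, 10⟩
noncomputable def cx_l4 : Level := ⟨70, [[4, 0, 2, 2, 4, 3, 4, 0, 2, 0, 3, 3, 4, 0], [0, 2, 0, 3, 3, 4, 0, 3, 4, 3, 4, 3, 3, 4, 2, 4, 2]], [], 0x4000040000c001042020008, 9⟩
noncomputable def cx_l5 : Level := ⟨91, [[0, 3, 3, 4, 3, 3, 4, 3, 4, 2, 4, 2, 2, 4, 2, 2, 0], [3, 3, 0, 2, 0, 2, 4, 2, 2, 4, 3, 3, 4, 3, 0, 3, 0, 2, 2]], [], 0x80200008001000000000000, 4⟩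
noncomputable def cx_l6 : Level := ⟨87, [[2, 2, 2, 0, 3, 4, 2, 2, 4, 0, 2, 2, 4, 0, 2, 2, 0, 3, 0]], [], 0x2008000000000000000000000, 2⟩
noncomputable def cx_ls : List Level := [cx_l0, cx_l1, cx_l2, cx_l3, cx_l4, cx_l5, cx_l6]
noncomputable def cx_S : Srch := ⟨7, m_ts, (chainBase [] c_ls), [2, 2, 2, 4, 2, 4, 2, 4, 0, 2, 4, 3], [2, 2, 2, 4, 2, 4, 2, 4, 0, 2, 4, 3], []⟩
noncomputable def cx_lk : List ℕ := [1, 2, 13, 22, 71, 92]
noncomputable def cx_tl : List Level := [cx_l1, cx_l2, cx_l3, cx_l4, cx_l5, cx_l6]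
noncomputable def cx_R0 : ℕ := 0x200000001000002800020cd
theorem cx_l0_ok : cx_l0.okT 7 m_ts [0, 2, 4] [] (.cons [0] (.cons [2] (.cons [0] (.cons [2] (.cons [0] (.cons [3] (.cons [0] .nil .nil) .nil) .nil) (.cons [3] (.cons [0] .nil (.cons [3] .nil .nil)) .nil)) .nil) (.cons [3] (.cons [0] (.cons [2] (.cons [0] (.cons [2] (.cons [0] .nil .nil) .nil) (.cons [2] (.cons [0] (.cons [3] (.cons [0] .nil (.cons [3] .nil .nil)) .nil) (.cons [4] (.cons [2] (.cons [0] .nil (.cons [2] (.cons [0] .nil (.cons [4] .nil .nil)) .nil)) .nil) .nil)) .nil)) (.cons [3] (.cons [0] .nil .nil) .nil)) .nil) .nil)) (.cons [2] (.cons [0] (.cons [2] (.cons [0] (.cons [2] (.cons [0] (.cons [3] (.cons [0] (.cons [3] (.cons [0] .nil .nil) .nil) .nil) (.cons [4] (.cons [3] .nil .nil) .nil)) (.cons [4] (.cons [2] (.cons [0] .nil (.cons [2] (.cons [0] (.cons [3] (.cons [0] .nil .nil) .nil) (.cons [4] .nil .nil)) .nil))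 .nil) .nil)) .nil) (.cons [2] (.cons [0] (.cons [3] (.cons [0] (.cons [4] .nil .nil) (.cons [3] .nil (.cons [4] (.cons [2] (.cons [2] (.cons [0] (.cons [3] .nil .nil) .nil) .nil) .nil) .nil))) .nil) (.cons [2] (.cons [0] (.cons [2] (.cons [0] .nil .nil) (.cons [3] (.cons [0] .nil .nil) .nil)) .nil) (.cons [4] (.cons [2] (.cons [0] (.cons [3] .nil (.cons [4] .nil .nil)) (.cons [2] (.cons [0] .nil .nil) (.cons [4] (.cons [3] (.cons [3] (.cons [0] .nil .nil) .nil) .nil) .nil))) .nil) .nil))) .nil)) (.cons [3] (.cons [0] (.cons [3] (.cons [0] (.cons [2] (.cons [0] (.cons [2] (.cons [0] .nil (.cons [2] (.cons [0] (.cons [2] .nil .nil) .nil) .nil)) (.cons [3] .nil .nil)) (.cons [2] .nil .nil)) (.cons [4] (.cons [2] (.cons [2] (.cons [0] .nil .nil) .nil) .nil) .nil)) (.cons [4] (.cons [3] (.cons [0] .nil (.cons [3] .nil .nil)) .nil) .nil)) .nil) (.cons [3] .nil .nil)) .nil)) .nil) .nil))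 = true := by decide +kernel
theorem cx_l1_ok : cx_l1.okT 7 m_ts [0, 2, 4] [0] (.cons [2] (.cons [4] (.cons [2] (.cons [0] (.cons [4] (.cons [0] .nil (.cons [2] .nil (.cons [3] (.cons [0] .nil .nil) .nil))) .nil) .nil) (.cons [3] (.cons [4] (.cons [0] (.cons [3] (.cons [4] (.cons [0] .nil .nil) .nil) .nil) (.cons [2] (.cons [0] .nil .nil) (.cons [3] (.cons [0] .nil (.cons [4] .nil .nil)) .nil))) .nil) .nil)) .nil) (.cons [3] (.cons [4] (.cons [0] (.cons [2] .nil (.cons [3] (.cons [4] (.cons [0] (.cons [2] .nil .nil) (.cons [3] (.cons [0] .nil .nil) .nil)) .nil) .nil)) .nil) .nil) (.cons [4] (.cons [0] (.cons [2] .nil (.cons [3] (.cons [4] (.cons [2] .nil (.cons [3] .nil .nil)) .nil) (.cons [4] (.cons [2] (.cons [4] .nil .nil) (.cons [3] .nil .nil)) .nil))) (.cons [2] (.cons [0] (.cons [2] (.cons [4] (.cons [3] (.cons [0] .nil .nil) (.cons [0] (.cons [2] .nil (.cons [4] .nil .nil)) (.cons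 [2] .nil .nil))) .nil) .nil) (.cons [4] (.cons [0] (.cons [2] (.cons [0] (.cons [4] .nil .nil) (.cons [4] .nil .nil)) (.cons [3] .nil .nil)) (.cons [2] (.cons [0] (.cons [2] (.cons [0] .nil .nil) (.cons [3] (.cons [0] .nil (.cons [4] (.cons [2] .nil .nil) .nil)) .nil)) (.cons [4] .nil .nil)) (.cons [3] (.cons [0] (.cons [2] .nil (.cons [3] (.cons [0] .nil (.cons [4] (.cons [0] .nil .nil) .nil)) .nil)) (.cons [4] .nil .nil)) .nil))) .nil)) (.cons [3] .nil .nil))) .nil))) = true := by decide +kernel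
theorem cx_l2_ok : cx_l2.okT 7 m_ts [0, 2, 4] [1, 0] (.cons [4] (.cons [6] (.cons [0] (.cons [2] .nil (.cons [6] .nil .nil)) (.cons [2] (.cons [6] (.cons [2] .nil .nil) .nil) .nil)) (.cons [7] (.cons [0] (.cons [2] .nil .nil) (.cons [2] .nil .nil)) .nil)) (.cons [6] (.cons [2] .nil .nil) (.cons [7] .nil .nil))) = true := by decide +kernel
theorem cx_l3_ok : cx_l3.okT 7 m_ts [0, 2, 4] [12, 1, 0] (.cons [0] (.cons [4] .nil (.cons [5] .nil .nil)) (.cons [2] (.cons [0] .nil (.cons [4] .nil .nil)) (.cons [4] (.cons [2] .nil .nil) (.cons [5] .nil .nil)))) = true := by decide +kernel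
theorem cx_l4_ok : cx_l4.okT 7 m_ts [0, 2, 4] [21, 12, 1, 0] (.cons [0] (.cons [2] .nil (.cons [3] .nil .nil)) (.cons [2] (.cons [0] .nil (.cons [2] .nil .nil)) (.cons [3] (.cons [3] .nil .nil) .nil))) = true := by decide +kernel
theorem cx_l5_ok : cx_l5.okT 7 m_ts [0, 2, 4] [70, 21, 12, 1, 0] (.cons [0] (.cons [2] .nil .nil) (.cons [2] .nil .nil)) = true := by decide +kernel
theorem cx_l6_ok : cx_l6.okT 7 m_ts [0, 2, 4] [91, 70, 21, 12, 1, 0] (.cons [0] .nil .nil) = true := by decide +kernel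
theorem cx_aux : cx_S.auxB [0, 2, 4] cx_ls [] (0 :: cx_lk) = true := by decide +kernel
theorem cx_cov : Nat.beq (Nat.land cx_l0.O (Srch.cover m_ns (invW cx_S.u') cx_R0 10)) cx_l0.O = true := by decide +kernel
theorem cx_r0 : cx_S.run (.cons [] (.cons [] (.cons [] (.cons [] (.cons [] (.cons [] (.cons [] (.leaf 2000) .nil) .nil) .nil) .nil) .nil) .nil) (.cons [2] (.cons [2, 4, 2] .nil .nil) (.cons [2, 0] (.cons [4, 3, 0, 3, 4, 2, 4] .nil .nil) (.cons [3, 0] (.cons [0, 4, 0, 2, 4, 2] .nil .nil) (.cons [2, 0, 2] (.cons [0, 2, 4, 2] (.cons [2, 6, 2, 6, 4] .nil .nil) .nil) (.cons [3, 0, 2] .nil (.cons [3, 0, 2, 0] .nil (.cons [2, 0, 3, 0] (.cons [0, 3, 4, 2, 4] .nil .nil) (.cons [3, 0, 3, 0] (.cons [0, 3, 4, 3, 4, 2] .nil .nil) (.cons [0, 2, 2, 4, 3, 0, 2, 2, 0, 2] .nil .nil)))))))))) (⟨cx_l0.b, cx_l0.S, [], cx_R0, 0⟩ :: cx_tl) (0 :: cx_lk) Pd.nil 0 = true := by decide +kernel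
theorem cx_sound {G : Type*} [Group G] {φ : G →* Equiv.Perm ℕ} {γ : ℕ → G}
    (M : Model φ γ 7 m_ns m_ts) : ChainSound φ (gp γ [0, 2, 4]) 7 [] cx_ls :=
  ⟨Level.okT_sound M cx_l0_ok,
   Level.okT_sound M cx_l1_ok,
   Level.okT_sound M cx_l2_ok,
   Level.okT_sound M cx_l3_ok,
   Level.okT_sound M cx_l4_ok,
   Level.okT_sound M cx_l5_ok,
   Level.okT_sound M cx_l6_ok, trivial⟩
theorem cx_cent {G : Type*} [Group G] {φ : G →* Equiv.Perm ℕ} {γ : ℕ → G}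
    (C : Cert φ γ 7 m_ns m_ts [0, 2, 4] c_ls) : Cent γ cx_S.u cx_S.Cl 10 :=
  have X := (C.rechain (cx_sound C.M) (by decide +kernel)).exact
  have A := Srch.auxB_sound (S := cx_S) C.M (K := ⊤) le_top rfl cx_aux
  have F := fun {tr : Tr} {R : ℕ} => Srch.found_of_run (S := cx_S) C.M C.base (by decide +kernel) X A (tr := tr) (R := R)
  Cent.of_found (S := cx_S) C.M X rfl (F cx_r0) cx_cov

end Cfsg.Agent.HNO
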