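import Cfsg.Agent.HNO.Mats
import Cfsg.Agent.CGT.Pres
import Cfsg.Prelude.Def_Spor_HN

set_option autoImplicit false
set_option Elab.async false
set_option maxRecDepth 100000
set_option linter.all false

namespace Cfsg.Agent.HNO
open Cfsg.Agent.CGT

open Cfsg.Agent.PM

theorem r0 : T.isOne As [2, 2, 2, 2, 2, 2] = true := by decide +kernel
theorem r1 : T.isOne As [0, 0, 2, 0, 0, 3] = true := by decide +kernel
theorem r2 : T.isOne As [1, 3, 0, 2, 1, 3, 0, 2, 1, 3, 0, 2] = true := by decide +kernel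
theorem r3 : T.isOne As [1, 2, 2, 0, 2, 2, 2, 1, 2, 2, 0, 2, 2, 2, 1, 2, 2, 0, 2, 2, 2] = true := by decide +kernel
theorem r4 : T.isOne As [0, 2, 0, 2, 0, 2, 0, 2, 0, 2, 0, 2, 0, 2, 0, 2] = true := by decide +kernel
theorem r5 : T.isOne As [0, 2, 0, 2, 2, 2, 0, 2, 0, 2, 2, 2, 0, 2, 0, 2, 2, 2, 0, 2, 0, 2, 2, 2] = true := by decide +kernel
theorem r6 : T.isOne As [4, 4] = true := by decide +kernel
theorem r7 : T.isOne As [4, 0, 4, 0] = true := by decide +kernel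
theorem r8 : T.isOne As [5, 2, 1, 3, 3, 1, 3, 1, 3, 4, 2, 0, 2, 0, 2, 2, 0, 3, 1, 1] = true := by decide +kernel
theorem r9 : T.isOne As [4, 3, 1, 3, 1, 3, 3, 3, 4, 2, 2, 2, 0, 2, 0, 2, 0, 3, 1, 3, 1, 3, 3, 3, 4, 2, 2, 2, 0, 2, 0, 2, 0, 3, 1, 3, 1, 3, 3, 3, 4, 2, 2, 2, 0, 2, 0, 2, 0] = true := by decide +kernel
theorem r10 : T.isOne As [6, 6, 6, 6, 6] = true := by decide +kernel
theorem r11 : T.isOne As [1, 6, 0, 6, 6] = true := by decide +kernel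
theorem r12 : T.isOne As [7, 3, 6, 2] = true := by decide +kernel
theorem r13 : T.isOne As [4, 6, 4, 6, 4, 6] = true := by decide +kernel
noncomputable def gens : List Cfsg.Spor.HN.Gen := [.x, .y, .z, .t]
theorem gens_all : ∀ x, x ∈ gens := by intro x; cases x <;> decide
theorem gens_nodup : gens.Nodup := by decide
/-- the generators -/
noncomputable abbrev δ : ℕ → Cfsg.Spor.HN := pγ gens Cfsg.Spor.HN.edges Cfsg.Spor.HN.extra
noncomputable def DR : List (List ℕ) := [[2, 2, 2, 2, 2, 2], [0, 0, 2, 0, 0, 3], [1, 3, 0, 2, 1, 3, 0, 2, 1, 3, 0, 2], [1, 2, 2, 0, 2, 2, 2, 1, 2, 2, 0, 2, 2, 2, 1, 2, 2, 0, 2, 2, 2], [0, 2, 0, 2, 0, 2, 0, 2, 0, 2, 0, 2, 0, 2, 0, 2], [0, 2, 0, 2, 2, 2, 0, 2, 0, 2, 2, 2, 0, 2, 0, 2, 2, 2, 0, 2, 0, 2, 2, 2], [4, 4], [4, 0, 4, 0], [5, 2, 1, 3, 3, 1, 3, 1, 3, 4, 2, 0, 2, 0, 2, 2, 0, 3, 1, 1], [4, 3, 1, 3, 1, 3, 3, 3, 4, 2, 2, 2, 0, 2, 0,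 2, 0, 3, 1, 3, 1, 3, 3, 3, 4, 2, 2, 2, 0, 2, 0, 2, 0, 3, 1, 3, 1, 3, 3, 3, 4, 2, 2, 2, 0, 2, 0, 2, 0], [6, 6, 6, 6, 6], [1, 6, 0, 6, 6], [7, 3, 6, 2], [4, 6, 4, 6, 4, 6]]
theorem DR_eq : defR gens Cfsg.Spor.HN.edges Cfsg.Spor.HN.extra = DR := by decide +kernel
theorem hD : Holds (ext δ) DR := DR_eq ▸ pres_holds gens_all _ _
theorem δ_gen : gp δ [0, 2, 4, 6] = ⊤ := pres_gen gens_all _ _ (by decide +kernel)
theorem δ_le (j : ℕ) (hj : 4 ≤ j) : δ j = 1 := by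
  rw [δ, pγ, List.getElem?_eq_none (show gens.length ≤ j from hj)]
theorem lift {X : Type*} [Group X] {p : ℕ → X} (hp : ∀ j, 4 ≤ j → p j = 1) (h : Holds (ext p) DR) :
    ∃ φ : Cfsg.Spor.HN →* X, ∀ j, φ (δ j) = p j :=
  pres_lift gens_all gens_nodup hp (DR_eq ▸ h)
theorem exists_rep : ∃ ρ : Cfsg.Spor.HN →* T.Mˣ, T.IsRep ρ δ As := by
  obtain ⟨ρ, hρ⟩ := lift (p := T.gen As) (fun j hj => Par.gen_of_le (show 8 ≤ _ by omega)) (by
    simp only [Holds, DR, List.forall_mem_cons, List.not_mem_nil, IsEmpty.forall_iff, implies_true, and_true]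
    exact ⟨Par.holds_gen T_ok lets r0, Par.holds_gen T_ok lets r1, Par.holds_gen T_ok lets r2, Par.holds_gen T_ok lets r3, Par.holds_gen T_ok lets r4, Par.holds_gen T_ok lets r5, Par.holds_gen T_ok lets r6, Par.holds_gen T_ok lets r7, Par.holds_gen T_ok lets r8, Par.holds_gen T_ok lets r9, Par.holds_gen T_ok lets r10, Par.holds_gen T_ok lets r11, Par.holds_gen T_ok lets r12, Par.holds_gen T_ok lets r13⟩)
  exact ⟨ρ, Par.isRep_of lets hρ⟩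

end Cfsg.Agent.HNO
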